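import Groth.Agent.KoszSh16.Sheaf
import Groth.Agent.InvX.Tensor
import Groth.Agent.QCoh.TensorSections
import Groth.Prelude.Def_KoszTw
import Mathlib.LinearAlgebra.ExteriorPower.Basis
import Mathlib.CategoryTheory.Abelian.Basic
import Mathlib.RingTheory.Flat.TorsionFree
import Mathlib.RingTheory.Flat.Basic

/-!
Koszul complexes of twisted cosections, locally on affine opens with a frame of the line bundle.
-/

set_option autoImplicit false
set_option linter.style.haveILetI false
set_option backward.isDefEq.respectTransparency false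
set_option backward.isDefEq.respectTransparency.types false

universe u

open CategoryTheory CategoryTheory.Limits AlgebraicGeometry TopologicalSpace Opposite
open Groth.Agent.AModX exteriorPower
open scoped TensorProduct

set_option maxHeartbeats 400000

noncomputable section

namespace Groth.Agent.KoszTw16

variable {X : Scheme.{u}}

section Abelian

variable {C : Type*} [Category C] [Abelian C] {A B Y : C}

theorem imageSubobject_le_of_cokernel (f : A ⟶ Y) (g : B ⟶ Y) (h : f ≫ cokernel.π g = 0) :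
    imageSubobject f ≤ imageSubobject g := by
  refine imageSubobject_le f (kernel.lift (cokernel.π g) f h ≫ (Abelian.imageIsoImage g).hom ≫
    (imageSubobjectIso g).inv) ?_
  rw [Category.assoc, Category.assoc, imageSubobject_arrow', Abelian.imageIsoImage_hom_comp_image_ι,
    kernel.lift_ι]

end Abelian

section Tensor

variable (M N : X.Modules)

theorem tmul_eq {U : X.Opens} (m : Γ(M, U)) (n : Γ(N, U)) :
    SecTwist.tmul M N U m n = QCoh.tmS M N m n := rfl

theorem tmul_eq' {U : X.Opens} (m : Γ(M, U)) (n : Γ(N, U)) :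
    SecTwist.tmul M N U m n = InvX.tmul m n := rfl

variable {M N}

/-- Tensoring sections over an affine open with a frame of the second factor is bijective. -/
theorem tmul_frame_bijective (hM : Coh.IsQCoh M) (hN : Coh.IsQCoh N) {W : X.Opens} (hW : IsAffineOpen W)
    {l : Γ(N, W)} (hl : InvX.IsFrame l) :
    Function.Bijective fun m : Γ(M, W) => SecTwist.tmul M N W m l := by
  let eN : Γ(X, W) ≃ₗ[Γ(X, W)] Γ(N, W) :=
    LinearEquiv.ofBijective (LinearMap.toSpanSingleton Γ(X, W) Γ(N, W) l) (by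
      have := hl W le_rfl
      simp only [res_self] at this
      exact this)
  let u : Γ(M, W) ≃ₗ[Γ(X, W)] Γ(M, W) ⊗[Γ(X, W)] Γ(N, W) :=
    (TensorProduct.rid Γ(X, W) Γ(M, W)).symm.trans (TensorProduct.congr (LinearEquiv.refl _ _) eN)
  have h : (fun m : Γ(M, W) => SecTwist.tmul M N W m l) = fun m => QCoh.tmLin M N W (u m) := by
    funext m
    simp only [u, LinearEquiv.trans_apply, TensorProduct.rid_symm_apply, TensorProduct.congr_tmul,
      LinearEquiv.refl_apply, QCoh.tmLin_tmul]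
    rw [tmul_eq]
    exact congrArg (QCoh.tmS M N m) (show l = (1 : Γ(X, W)) • l from (one_smul _ l).symm)
  rw [h]
  exact (QCoh.bijective_tmLin hM hN hW).comp u.bijective

/-- Tensoring with a fixed section, as a linear map. -/
def tmulRight (W : X.Opens) (l : Γ(N, W)) : Γ(M, W) →ₗ[Γ(X, W)] Γ(CohB1.tensorMod M N, W) where
  toFun m := SecTwist.tmul M N W m l
  map_add' m m' := QCoh.tmS_add_left M N m m' l
  map_smul' r m := QCoh.tmS_smul_left M N r m l

end Tensor

theorem isFrame_tprod {L : X.Modules} {W : X.Opens} {l : Γ(L, W)} (hl : InvX.IsFrame l) :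
    ∀ q, InvX.IsFrame (KoszTw.tprod L q W fun _ => l)
  | 0 => InvX.isFrame_one W
  | q + 1 => InvX.isFrame_tmul (isFrame_tprod hl q) hl

section Formulas

variable {P P' Q Q' Q'' N L' : X.Modules} {W : X.Opens}

theorem comp_tensorMap_app (φ : P ⟶ CohB1.tensorMod Q N) (f : Q ⟶ Q') (x : Γ(P, W)) (c : Γ(Q, W)) (n : Γ(N, W))
    (hx : φ.app W x = SecTwist.tmul Q N W c n) :
    (φ ≫ KoszTw.tensorMap f (𝟙 N)).app W x = SecTwist.tmul Q' N W (f.app W c) n := by
  show (KoszTw.tensorMap f (𝟙 N)).app W (φ.app W x) = _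
  rw [hx]
  erw [KoszTw.tensorMap_tmul]
  rfl

theorem tmul_eq_zero_iff (hM : Coh.IsQCoh P) (hN : Coh.IsQCoh N) (hW : IsAffineOpen W) {l : Γ(N, W)}
    (hl : InvX.IsFrame l) (m : Γ(P, W)) : SecTwist.tmul P N W m l = 0 ↔ m = 0 :=
  ⟨fun h => (tmul_frame_bijective hM hN hW hl).1 (h.trans ((tmulRight W l).map_zero).symm),
    fun h => h ▸ (tmulRight W l).map_zero⟩

theorem unitorR_inv_app (x : Γ(P, W)) :
    (SecTwist.unitorR P).inv.app W x =
      SecTwist.tmul P (Coh.structureModule X) W x (show Γ(Coh.structureModule X, W) from (1 : Γ(X, W))) := by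
  have h : (SecTwist.unitorR P).hom.app W
      (SecTwist.tmul P (Coh.structureModule X) W x
        (show Γ(Coh.structureModule X, W) from (1 : Γ(X, W)))) = x :=
    (SecTwist.unitorR_tmul P W x (1 : X.ringCatSheaf.obj.obj (op W))).trans (one_smul Γ(X, W) x)
  conv_lhs => rw [← h]
  exact congr($(congrArg (fun φ => Scheme.Modules.Hom.app φ W) (SecTwist.unitorR P).hom_inv_id) _)

theorem unitor_tensorMap_app (d : P ⟶ P') (lam : Coh.structureModule X ⟶ L') (θ : P' ⟶ Q)
    (x : Γ(P, W)) (a : Γ(X, W)) (l : Γ(L', W))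
    (ha : lam.app W (show Γ(Coh.structureModule X, W) from (1 : Γ(X, W))) = a • l) :
    ((SecTwist.unitorR P).inv ≫ KoszTw.tensorMap d lam ≫ KoszTw.tensorMap θ (𝟙 L')).app W x =
      SecTwist.tmul Q L' W (θ.app W (a • d.app W x)) l := by
  show (KoszTw.tensorMap θ (𝟙 L')).app W ((KoszTw.tensorMap d lam).app W ((SecTwist.unitorR P).inv.app W x)) = _
  rw [unitorR_inv_app]
  erw [KoszTw.tensorMap_tmul, KoszTw.tensorMap_tmul]
  show SecTwist.tmul Q L' W (θ.app W (d.app W x)) (lam.app W _) = _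
  rw [ha, Scheme.Modules.Hom.app_smul]
  exact (QCoh.tmS_smul_right Q L' a _ l).trans (QCoh.tmS_smul_left Q L' a _ l).symm

theorem tensorMap_tensorMap_app (f : Q ⟶ Q') (c : Γ(Q, W)) (n : Γ(N, W)) (l : Γ(L', W)) :
    (KoszTw.tensorMap (KoszTw.tensorMap f (𝟙 N)) (𝟙 L')).app W
        (SecTwist.tmul _ L' W (SecTwist.tmul Q N W c n) l) =
      SecTwist.tmul _ L' W (SecTwist.tmul Q' N W (f.app W c) n) l := by
  erw [KoszTw.tensorMap_tmul, KoszTw.tensorMap_tmul]
  rfl

end Formulas

variable {F L : X.Modules} {s : F ⟶ Coh.structureModule X} {lam : Coh.structureModule X ⟶ L}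
  {t : CohB1.tensorMod F L ⟶ Coh.structureModule X}

variable (F L) in
/-- Affine opens on which `F` is free and `L` has a frame. -/
def Good : Set X.Opens :=
  {W | IsAffineOpen W ∧ Module.Free Γ(X, W) Γ(F, W) ∧ ∃ l : Γ(L, W), InvX.IsFrame l}

theorem isBasis_good (hF : FlatMod.IsFinLocFree F) (hL : PicF.IsInvertible L) : Opens.IsBasis (Good F L) := by
  rw [Opens.isBasis_iff_nbhd]
  intro V x hx
  obtain ⟨U₁, n, hx₁, ⟨e⟩⟩ := hF x
  obtain ⟨U₂, hx₂, l, hl⟩ := InvX.exists_frame hL x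
  obtain ⟨_, ⟨W, hW, rfl⟩, hxW, hWle⟩ := X.isBasis_affineOpens.exists_subset_of_mem_open
    (show x ∈ V ⊓ U₁ ⊓ U₂ from ⟨⟨hx, hx₁⟩, hx₂⟩) (V ⊓ U₁ ⊓ U₂).2
  obtain ⟨e'⟩ := QCoh.free_sections (M := F) hW (fun y hy => (hWle hy).1.2) e
  exact ⟨W, ⟨hW, Module.Free.of_equiv e'.symm, _, hl.res (fun y hy => (hWle hy).2)⟩, hxW,
    fun y hy => (hWle hy).1.1⟩

variable {W : X.Opens} (hW : IsAffineOpen W) {l : Γ(L, W)} (hl : InvX.IsFrame l)

/-- `Γ(F, W) → Γ(F ⊗ L, W)`, `f ↦ f ⊗ l`. -/
abbrev uMap (F : X.Modules) (l : Γ(L, W)) : Γ(F, W) →ₗ[Γ(X, W)] Γ(CohB1.tensorMod F L, W) :=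
  tmulRight W l

variable (C : KoszSh.Cx F s) (D : KoszSh.Cx (CohB1.tensorMod F L) t)

/-- The section of `Λ^p(F ⊗ L)` attached to `y` in `Λ^p F`. -/
def xOf (l : Γ(L, W)) (p : ℕ) (y : ⋀[Γ(X, W)]^p Γ(F, W)) : Γ(D.K.X p, W) :=
  (D.loc p ⟨W, hW⟩).symm (exteriorPower.map p (uMap F l) y)

include hl in
theorem xOf_surjective (hF : Coh.IsQCoh F) (hL : Coh.IsQCoh L) (p : ℕ) :
    Function.Surjective (xOf hW D l p) := by
  have hu : Function.Surjective (uMap F l) := (tmul_frame_bijective hF hL hW hl).2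
  exact (D.loc p ⟨W, hW⟩).symm.surjective.comp (exteriorPower.map_surjective hu)

theorem theta_xOf (l : Γ(L, W)) (p : ℕ) (θ : KoszTw.CxDecData C D p) (y : ⋀[Γ(X, W)]^p Γ(F, W)) :
    θ.iso.hom.app W (xOf hW D l p y) =
      SecTwist.tmul (C.K.X p) (CohB1.tensorPow L p) W ((C.loc p ⟨W, hW⟩).symm y)
        (KoszTw.tprod L p W fun _ => l) := by
  have hy : y ∈ Submodule.span Γ(X, W) (Set.range (ιMulti Γ(X, W) p (M := Γ(F, W)))) := by
    rw [ιMulti_span]; trivial
  induction hy using Submodule.span_induction with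
  | mem z hz =>
    obtain ⟨e, rfl⟩ := hz
    simp only [xOf, exteriorPower.map_apply_ιMulti]
    exact θ.rule ⟨W, hW⟩ e fun _ => l
  | zero =>
    simp only [xOf, map_zero]
    exact ((tmulRight W (KoszTw.tprod L p W fun _ => l)).map_zero).symm
  | add a b _ _ ha hb =>
    simp only [xOf, map_add] at ha hb ⊢
    rw [ha, hb]
    exact ((tmulRight W (KoszTw.tprod L p W fun _ => l)).map_add _ _).symm
  | smul r a _ ha =>
    simp only [xOf, map_smul, Scheme.Modules.Hom.app_smul] at ha ⊢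
    rw [ha]
    exact ((tmulRight W (KoszTw.tprod L p W fun _ => l)).map_smul r _).symm

theorem lam_eq_smul (r : Γ(X, W)) :
    lam.app W (show Γ(Coh.structureModule X, W) from r) =
      r • lam.app W (show Γ(Coh.structureModule X, W) from (1 : Γ(X, W))) := by
  rw [← Scheme.Modules.Hom.app_smul]
  exact congrArg (lam.app W) (mul_one r).symm

include hl in
/-- The coefficient of the global section and the twisted cosection. -/
theorem exists_coeff (htri : KoszTw.TwistTriangle s lam t) :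
    ∃ a : Γ(X, W), lam.app W (show Γ(Coh.structureModule X, W) from (1 : Γ(X, W))) = a • l ∧
      (∀ f : Γ(F, W), KoszSh.secForm s W f = a * KoszSh.secForm t W (uMap F l f)) ∧
      (Mono lam → a ∈ nonZeroDivisors Γ(X, W)) := by
  obtain ⟨a, ha⟩ := hl.exists_coord le_rfl (lam.app W (show Γ(Coh.structureModule X, W) from (1 : Γ(X, W))))
  rw [res_self] at ha
  refine ⟨a, ha, fun f => ?_, fun _ => mem_nonZeroDivisors_iff_right.2 fun x hx => ?_⟩
  · refine hl.coord_unique le_rfl ?_
    rw [res_self]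
    refine (htri W f l).symm.trans ?_
    refine (lam_eq_smul (lam := lam) (W := W) (KoszSh.secForm t W (uMap F l f))).trans ?_
    rw [ha, ← mul_smul, mul_comm]
  · have h0 : lam.app W (show Γ(Coh.structureModule X, W) from x) = 0 := by
      rw [lam_eq_smul, ha, ← mul_smul, hx, zero_smul]
    exact QCoh.app_injective lam W (h0.trans (map_zero _).symm)

/-- The differentials correspond up to the coefficient of the section. -/
theorem smul_d_xOf {a : Γ(X, W)} (ha : ∀ f : Γ(F, W), KoszSh.secForm s W f = a * KoszSh.secForm t W (uMap F l f))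
    (p : ℕ) (y : ⋀[Γ(X, W)]^(p + 1) Γ(F, W)) :
    a • (D.K.d (p + 1) p).app W (xOf hW D l (p + 1) y) =
      xOf hW D l p (C.loc p ⟨W, hW⟩ ((C.K.d (p + 1) p).app W ((C.loc (p + 1) ⟨W, hW⟩).symm y))) := by
  have hy : y ∈ Submodule.span Γ(X, W) (Set.range (ιMulti Γ(X, W) (p + 1) (M := Γ(F, W)))) := by
    rw [ιMulti_span]; trivial
  induction hy using Submodule.span_induction with
  | mem z hz =>
    obtain ⟨e, rfl⟩ := hz
    simp only [xOf, exteriorPower.map_apply_ιMulti]
    erw [D.rule p ⟨W, hW⟩, C.rule p ⟨W, hW⟩, LinearEquiv.apply_symm_apply]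
    rw [← map_smul]
    congr 1
    rw [KoszSh.dGen, KoszSh.dGen, map_sum, Finset.smul_sum]
    refine Finset.sum_congr rfl fun i _ => ?_
    rw [map_smul, exteriorPower.map_apply_ιMulti, smul_smul]
    congr 1
    rw [Function.comp_apply, ha]
    ring
  | zero => simp [xOf]
  | add a b _ _ ha hb =>
    simp only [xOf, map_add, smul_add] at ha hb ⊢
    rw [ha, hb]
  | smul r b _ hb =>
    simp only [xOf, map_smul, Scheme.Modules.Hom.app_smul] at hb ⊢
    rw [smul_comm, hb]

include hW hl in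
theorem ker_iff (hF : Coh.IsQCoh F) (hLq : Coh.IsQCoh L)
    (q : ℕ) (hP : Coh.IsQCoh (CohB1.tensorPow L (q + 1))) (hC : Coh.IsQCoh (C.K.X q))
    (hfree : Module.Free Γ(X, W) Γ(F, W)) [Mono lam] (htri : KoszTw.TwistTriangle s lam t)
    (θ : KoszTw.CxDecData C D (q + 1)) (x : Γ(D.K.X (q + 1), W)) :
    (θ.iso.hom ≫ KoszTw.tensorMap (C.K.d (q + 1) q) (𝟙 (CohB1.tensorPow L (q + 1)))).app W x = 0 ↔
      (D.K.d (q + 1) q).app W x = 0 := by
  obtain ⟨y, rfl⟩ := xOf_surjective hW hl D hF hLq (q + 1) x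
  obtain ⟨a, -, ha, hreg⟩ := exists_coeff hl htri
  rw [comp_tensorMap_app θ.iso.hom (C.K.d (q + 1) q) _ _ _ (theta_xOf hW C D l (q + 1) θ y),
    tmul_eq_zero_iff hC hP hW (isFrame_tprod hl (q + 1))]
  have hu := tmul_frame_bijective hF hLq hW hl
  haveI := hfree
  haveI : Module.Free Γ(X, W) Γ(CohB1.tensorMod F L, W) :=
    Module.Free.of_equiv (LinearEquiv.ofBijective (uMap F l) hu)
  haveI : Module.Free Γ(X, W) Γ(D.K.X q, W) := Module.Free.of_equiv (D.loc q ⟨W, hW⟩).symm
  have hreg' : IsSMulRegular Γ(D.K.X q, W) a :=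
    Module.Flat.isSMulRegular_of_nonZeroDivisors (hreg inferInstance)
  have h2 := smul_d_xOf hW C D ha q y
  constructor
  · intro h
    refine hreg' ?_
    show a • _ = a • (0 : Γ(D.K.X q, W))
    rw [h2, h, smul_zero]
    simp [xOf]
  · intro h
    rw [h, smul_zero] at h2
    have h3 := (D.loc q ⟨W, hW⟩).symm.injective (h2.symm.trans (map_zero _).symm)
    refine (C.loc q ⟨W, hW⟩).injective ?_
    rw [map_zero]
    refine exteriorPower.map_injective (n := q) (LinearEquiv.ofBijective (uMap F l) hu).symm.toLinearMap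
      (LinearMap.ext fun f => (LinearEquiv.ofBijective (uMap F l) hu).symm_apply_apply f) ?_
    exact h3.trans (map_zero _).symm

include hW hl in
/-- The two twisted differentials on the generators of their sources. -/
theorem twisted_eq (htri : KoszTw.TwistTriangle s lam t) (q : ℕ) (θ : KoszTw.CxDecData C D q)
    (y : ⋀[Γ(X, W)]^(q + 1) Γ(F, W)) :
    ((SecTwist.unitorR (D.K.X (q + 1))).inv ≫ KoszTw.tensorMap (D.K.d (q + 1) q) lam ≫
        KoszTw.tensorMap θ.iso.hom (𝟙 L)).app W (xOf hW D l (q + 1) y) =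
      (KoszTw.tensorMap (KoszTw.tensorMap (C.K.d (q + 1) q) (𝟙 (CohB1.tensorPow L q))) (𝟙 L)).app W
        (SecTwist.tmul _ L W (SecTwist.tmul (C.K.X (q + 1)) (CohB1.tensorPow L q) W
          ((C.loc (q + 1) ⟨W, hW⟩).symm y) (KoszTw.tprod L q W fun _ => l)) l) := by
  obtain ⟨a, hlam, ha, -⟩ := exists_coeff hl htri
  rw [unitor_tensorMap_app (D.K.d (q + 1) q) lam θ.iso.hom _ a l hlam, tensorMap_tensorMap_app,
    smul_d_xOf hW C D ha, theta_xOf hW C D l q θ, LinearEquiv.symm_apply_apply]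

end Groth.Agent.KoszTw16

namespace Groth.Agent.KoszTw16

open CategoryTheory CategoryTheory.Limits AlgebraicGeometry

variable {X : Scheme.{u}}

theorem isQCoh_of_isInvertible {L : X.Modules} (hL : PicF.IsInvertible L) : Coh.IsQCoh L :=
  QCoh.isQCoh_of_isFinLocFree fun x => by
    obtain ⟨U, hx, ⟨e⟩⟩ := hL x
    exact ⟨U, 1, hx, ⟨e ≪≫ (coproductUniqueIso fun _ : Fin 1 => Coh.structureModule (U : Scheme.{u})).symm⟩⟩

end Groth.Agent.KoszTw16
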