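import Groth.Agent.KoszSh16.Alg
import Mathlib.LinearAlgebra.StdBasis
import Mathlib.LinearAlgebra.ExteriorAlgebra.Basic

/-!
An element regular modulo a regular ideal is regular on the Koszul homology of any presentation of it.
-/

set_option autoImplicit false

universe u

open CliffordAlgebra (contractLeft contractLeft_algebraMap contractLeft_ι)

noncomputable section

namespace Groth.Agent.KoszTw16

open Groth.Agent.KoszSh16

variable {R : Type u} [CommRing R] {M M' : Type u} [AddCommGroup M] [Module R M] [AddCommGroup M'] [Module R M']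

theorem contract_map (f : M →ₗ[R] M') (φ : M' →ₗ[R] R) (z : ExteriorAlgebra R M) :
    contractLeft φ (ExteriorAlgebra.map f z) = ExteriorAlgebra.map f (contractLeft (φ.comp f) z) := by
  induction z using CliffordAlgebra.left_induction with
  | algebraMap r => rw [AlgHom.commutes, contractLeft_algebraMap, contractLeft_algebraMap, map_zero]
  | add a b ha hb => simp only [map_add, ha, hb]
  | ι_mul x m hx =>
    rw [show CliffordAlgebra.ι (0 : QuadraticForm R M) m = ExteriorAlgebra.ι R m from rfl, map_mul,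
      ExteriorAlgebra.map_apply_ι, contract_mul, contract_mul, hx, map_sub, map_smul, map_mul,
      ExteriorAlgebra.map_apply_ι]
    rfl

theorem map_mem_deg1 (f : M →ₗ[R] M') (N : Submodule R M) (q : ℕ) {z : ExteriorAlgebra R M}
    (hz : z ∈ deg1 N ^ q) : ExteriorAlgebra.map f z ∈ deg1 (N.map f) ^ q := by
  have h : (deg1 N ^ q).map (ExteriorAlgebra.map f).toLinearMap = deg1 (N.map f) ^ q := by
    rw [Submodule.map_pow, deg1, deg1, ← Submodule.map_comp, ← Submodule.map_comp]
    congr 2
    exact LinearMap.ext fun m => ExteriorAlgebra.map_apply_ι f m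
  exact h ▸ Submodule.mem_map_of_mem hz

/-- The regularity statement on a subspace. -/
def RegOn (φ : M →ₗ[R] R) (x : R) (N : Submodule R M) : Prop :=
  ∀ (q : ℕ), ∀ z ∈ deg1 N ^ q, contractLeft φ z = 0 → ∀ w ∈ deg1 N ^ (q + 1), contractLeft φ w = x • z →
    ∃ w' ∈ deg1 N ^ (q + 1), contractLeft φ w' = z

theorem regOn_zero (φ : M →ₗ[R] R) (x : R) (N : Submodule R M) (I : Ideal R)
    (hN : N.map φ = I) (hx : ∀ r, x * r ∈ I → r ∈ I) :
    ∀ z ∈ deg1 N ^ 0, ∀ w ∈ deg1 N ^ 1, contractLeft φ w = x • z → ∃ w' ∈ deg1 N ^ 1, contractLeft φ w' = z := by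
  intro z hz w hw hdw
  rw [pow_zero, Submodule.mem_one] at hz
  obtain ⟨r, rfl⟩ := hz
  rw [pow_one] at hw ⊢
  obtain ⟨m, hm, rfl⟩ := hw
  rw [contractLeft_ι, Algebra.smul_def, ← map_mul] at hdw
  have h0 : φ m = x * r := (ExteriorAlgebra.algebraMap_leftInverse M).injective hdw
  have hr : r ∈ N.map φ := by
    rw [hN]
    exact hx r (h0 ▸ hN ▸ Submodule.mem_map_of_mem hm)
  obtain ⟨m', hm', rfl⟩ := hr
  exact ⟨ExteriorAlgebra.ι R m', Submodule.mem_map_of_mem hm', contractLeft_ι _ φ m'⟩

theorem regOn_sup (φ ε : M →ₗ[R] R) (x : R) (N : Submodule R M) (e : M) (he : φ e = 0) (hεe : ε e = 1)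
    (hεN : ∀ m ∈ N, ε m = 0) (I : Ideal R) (hN : N.map φ = I) (hx : ∀ r, x * r ∈ I → r ∈ I)
    (h : RegOn φ x N) : RegOn φ x (N ⊔ R ∙ e) := by
  have hN' : (N ⊔ R ∙ e).map φ = I := by
    rw [Submodule.map_sup, hN, Submodule.map_span, Set.image_singleton, he,
      Submodule.span_zero_singleton, sup_bot_eq]
  intro q z hz hdz w hw hdw
  cases q with
  | zero => exact regOn_zero φ x _ I hN' hx z hz w hw hdw
  | succ p =>
    obtain ⟨a, ha, c, hc, rfl⟩ := decompose N e p z hz
    obtain ⟨w₁, hw₁, w₂, hw₂, rfl⟩ := decompose N e (p + 1) w hw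
    have hda := contract_mem φ N p a ha
    have hdw₁ := contract_mem φ N (p + 1) w₁ hw₁
    have hdw₂ := contract_mem φ N p w₂ hw₂
    rw [map_add, contract_mul, he, zero_smul, zero_sub] at hdz hdw
    have hεdc : contractLeft ε (contractLeft φ c) = 0 := by
      cases p with
      | zero =>
        rw [pow_zero, Submodule.mem_one] at hc
        obtain ⟨r, rfl⟩ := hc
        rw [contractLeft_algebraMap, map_zero]
      | succ p => exact contract_eq_zero ε N hεN p _ (contract_mem φ N p c hc)
    have hdc : contractLeft φ c = 0 := by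
      have h' := congrArg (contractLeft ε) hdz
      simp only [map_add, map_neg, map_zero, contract_mul, hεe, one_smul,
        contract_eq_zero ε N hεN p _ hda, hεdc, mul_zero, sub_zero, zero_add, neg_eq_zero] at h'
      exact h'
    have hda0 : contractLeft φ a = 0 := by
      rw [hdc, mul_zero, neg_zero, add_zero] at hdz
      exact hdz
    have hxc : contractLeft φ (-w₂) = x • c := by
      have h' := congrArg (contractLeft ε) hdw
      simp only [map_add, map_neg, map_smul, smul_add, contract_mul, hεe, one_smul,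
        contract_eq_zero ε N hεN (p + 1) _ hdw₁, contract_eq_zero ε N hεN p _ hdw₂,
        contract_eq_zero ε N hεN (p + 1) _ ha, contract_eq_zero ε N hεN p _ hc,
        mul_zero, sub_zero, zero_add, smul_zero] at h'
      rw [map_neg]
      exact h'
    have hxa : contractLeft φ w₁ = x • a := by
      rw [← mul_neg, ← map_neg, hxc, smul_add, mul_smul_comm] at hdw
      exact add_right_cancel hdw
    obtain ⟨a', ha', hda'⟩ := h (p + 1) a ha hda0 w₁ hw₁ hxa
    obtain ⟨c', hc', hdc'⟩ := h p c hc hdc (-w₂) (neg_mem hw₂) hxc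
    refine ⟨a' - ExteriorAlgebra.ι R e * c', sub_mem (pow_le_pow_left' (Submodule.map_mono le_sup_left) _ ha') ?_, ?_⟩
    · rw [pow_succ' _ (p + 1)]
      exact Submodule.mul_mem_mul ⟨e, Submodule.mem_sup_right (Submodule.mem_span_singleton_self e), rfl⟩
        (pow_le_pow_left' (Submodule.map_mono le_sup_left) _ hc')
    · rw [map_sub, contract_mul, hda', hdc', he, zero_smul, zero_sub, sub_neg_eq_add]

/-- Koszul homology of a generating family of a regular ideal: elements regular modulo the ideal are regular. -/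
theorem exists_boundary_of_smul {m c : ℕ} (φ : M →ₗ[R] R) (b₀ : Module.Basis (Fin m) R M) (g : Fin c → R)
    (hg : RingTheory.Sequence.IsWeaklyRegular R (List.ofFn g)) (hI : LinearMap.range φ = Ideal.span (Set.range g))
    {x : R} (hx : ∀ r, x * r ∈ Ideal.span (Set.range g) → r ∈ Ideal.span (Set.range g)) (q : ℕ)
    (z : ↥(⋀[R]^q M)) (hz : contractLeft φ (z : ExteriorAlgebra R M) = 0) (w : ↥(⋀[R]^(q + 1) M))
    (hw : contractLeft φ (w : ExteriorAlgebra R M) = x • (z : ExteriorAlgebra R M)) :
    ∃ w' : ↥(⋀[R]^(q + 1) M), contractLeft φ (w' : ExteriorAlgebra R M) = z := by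
  let G : (Fin c → R) →ₗ[R] R := Fintype.linearCombination R g
  let χ : ((Fin c → R) × M) →ₗ[R] R := G.comp (LinearMap.fst R (Fin c → R) M)
  have hG : LinearMap.range G = Ideal.span (Set.range g) := Fintype.range_linearCombination R g
  obtain ⟨h, hh⟩ : ∃ h : M →ₗ[R] (Fin c → R), G.comp h = φ := by
    have hb : ∀ j, ∃ t, G t = φ (b₀ j) := fun j =>
      LinearMap.mem_range.1 (hG.symm ▸ hI ▸ LinearMap.mem_range_self φ (b₀ j))
    choose t ht using hb
    exact ⟨b₀.constr R t, b₀.ext fun j => by rw [LinearMap.comp_apply, Module.Basis.constr_basis, ht]⟩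
  obtain ⟨L, hL⟩ : ∃ L : (Fin c → R) →ₗ[R] M, φ.comp L = G := by
    have hb : ∀ j, ∃ y, φ y = g j := fun j => LinearMap.mem_range.1 (hI.symm ▸ Ideal.subset_span ⟨j, rfl⟩)
    choose y hy using hb
    refine ⟨(Pi.basisFun R (Fin c)).constr R y, (Pi.basisFun R (Fin c)).ext fun j => ?_⟩
    rw [LinearMap.comp_apply, Module.Basis.constr_basis, hy]
    simp [G, Fintype.linearCombination_apply, Pi.single_apply]
  let T : M →ₗ[R] ((Fin c → R) × M) := h.prod LinearMap.id
  let S : ((Fin c → R) × M) →ₗ[R] M := LinearMap.snd R _ M + L.comp (LinearMap.fst R _ M - h.comp (LinearMap.snd R _ M))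
  have hχT : χ.comp T = φ := hh
  have hφS : φ.comp S = χ := LinearMap.ext fun y => by
    have e1 := LinearMap.congr_fun hh y.2
    have e2 := LinearMap.congr_fun hL (y.1 - h y.2)
    simp only [LinearMap.comp_apply] at e1 e2
    simp only [S, χ, LinearMap.comp_apply, LinearMap.add_apply, LinearMap.sub_apply, LinearMap.fst_apply,
      LinearMap.snd_apply, map_add]
    rw [e2, map_sub, e1]
    ring
  have hST : ∀ y, S (T y) = y := fun y => by simp [S, T]
  let b : Module.Basis (Fin c ⊕ Fin m) R ((Fin c → R) × M) := (Pi.basisFun R (Fin c)).prod b₀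
  let N : ℕ → Submodule R ((Fin c → R) × M) := fun k =>
    LinearMap.range (LinearMap.inl R (Fin c → R) M) ⊔
      Submodule.span R ((fun j => b (Sum.inr j)) '' {j | (j : ℕ) < k})
  have hN0 : N 0 = LinearMap.range (LinearMap.inl R (Fin c → R) M) := by simp [N]
  have hsucc : ∀ k (hk : k < m), N (k + 1) = N k ⊔ R ∙ b (Sum.inr ⟨k, hk⟩) := fun k hk => by
    simp only [N]
    rw [show {j : Fin m | (j : ℕ) < k + 1} = insert ⟨k, hk⟩ {j : Fin m | (j : ℕ) < k} from
      Set.ext fun j => by simp [Fin.ext_iff]; omega, Set.image_insert_eq, Submodule.span_insert, sup_assoc,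
      sup_comm (Submodule.span R _) (Submodule.span R _)]
  have hχr : ∀ j, χ (b (Sum.inr j)) = 0 := fun j => by simp [χ, b, Module.Basis.prod_apply_inr_fst]
  have hmapN : ∀ k, k ≤ m → (N k).map χ = Ideal.span (Set.range g) := by
    intro k
    induction k with
    | zero =>
      intro _
      rw [hN0, ← LinearMap.range_comp, show χ.comp (LinearMap.inl R (Fin c → R) M) = G from LinearMap.ext fun t => rfl,
        hG]
    | succ k ih =>
      intro hk
      rw [hsucc k hk, Submodule.map_sup, ih (Nat.le_of_succ_le hk), Submodule.map_span, Set.image_singleton, hχr,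
        Submodule.span_zero_singleton, sup_bot_eq]
  have hbase : RegOn χ x (N 0) := by
    intro q z hz hdz w hw hdw
    cases q with
    | zero => exact regOn_zero χ x _ _ (hmapN 0 (Nat.zero_le m)) hx z hz w hw hdw
    | succ p =>
      rw [hN0] at hz ⊢
      let F := LinearMap.fst R (Fin c → R) M
      let J := LinearMap.inl R (Fin c → R) M
      have hdeg : ∀ p, deg1 (⊤ : Submodule R (Fin c → R)) ^ p = ⋀[R]^p (Fin c → R) := fun p => by
        rw [deg1, Submodule.map_top]
      have hfix : ∀ y ∈ deg1 (LinearMap.range J) ^ (p + 1), ExteriorAlgebra.map J (ExteriorAlgebra.map F y) = y := by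
        intro y hy
        rw [show deg1 (LinearMap.range J) ^ (p + 1) = (deg1 (⊤ : Submodule R (Fin c → R)) ^ (p + 1)).map
            (ExteriorAlgebra.map J).toLinearMap by
          rw [Submodule.map_pow, deg1, deg1, LinearMap.range_eq_map, ← Submodule.map_comp, ← Submodule.map_comp]
          congr 2
          exact LinearMap.ext fun t => (ExteriorAlgebra.map_apply_ι J t).symm] at hy
        obtain ⟨y', -, rfl⟩ := hy
        rw [AlgHom.toLinearMap_apply, ← AlgHom.comp_apply, ← AlgHom.comp_apply,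
          ExteriorAlgebra.map_comp_map, ExteriorAlgebra.map_comp_map,
          show (J ∘ₗ F) ∘ₗ J = J from LinearMap.ext fun t => rfl]
      have hz0 : contractLeft G (ExteriorAlgebra.map F z) = 0 := by
        rw [contract_map, show G.comp F = χ from rfl, hdz, map_zero]
      have hzm : ExteriorAlgebra.map F z ∈ ⋀[R]^(p + 1) (Fin c → R) :=
        hdeg (p + 1) ▸ pow_le_pow_left' (Submodule.map_mono le_top) _ (map_mem_deg1 F _ (p + 1) hz)
      obtain ⟨y, hy⟩ := exists_boundary G (Pi.basisFun R (Fin c)) (by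
        convert hg using 2
        exact funext fun j => by simp [G, Fintype.linearCombination_apply, Pi.single_apply]) p ⟨_, hzm⟩ hz0
      refine ⟨ExteriorAlgebra.map J (y : ExteriorAlgebra R (Fin c → R)), ?_, ?_⟩
      · rw [LinearMap.range_eq_map]
        exact map_mem_deg1 J ⊤ _ ((hdeg (p + 2)).symm ▸ y.2)
      · rw [contract_map, show χ.comp J = G from LinearMap.ext fun t => rfl, hy, hfix z hz]
  have hall : ∀ k, k ≤ m → RegOn χ x (N k) := by
    intro k
    induction k with
    | zero => exact fun _ => hbase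
    | succ k ih =>
      intro hk
      rw [hsucc k hk]
      refine regOn_sup χ (b.coord (Sum.inr ⟨k, hk⟩)) x _ _ (hχr _) (by simp) ?_ _
        (hmapN k (Nat.le_of_succ_le hk)) hx (ih (Nat.le_of_succ_le hk))
      intro y hy
      suffices hle : N k ≤ LinearMap.ker (b.coord (Sum.inr ⟨k, hk⟩)) from LinearMap.mem_ker.1 (hle hy)
      refine sup_le ?_ (Submodule.span_le.2 ?_)
      · rintro _ ⟨t, rfl⟩
        simp [b, Module.Basis.prod_repr_inr]
      · rintro _ ⟨j, hj, rfl⟩
        have hne : j ≠ ⟨k, hk⟩ := fun h => by simp [h] at hj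
        simp [hne]
  have hNm : N m = ⊤ := by
    rw [eq_top_iff, ← b.span_eq, Submodule.span_le]
    rintro _ ⟨i | j, rfl⟩
    · exact Submodule.mem_sup_left ⟨Pi.basisFun R (Fin c) i, by
        refine Prod.ext ?_ ?_ <;> simp [b]⟩
    · exact Submodule.mem_sup_right (Submodule.subset_span ⟨j, j.2, rfl⟩)
  have hR : RegOn χ x ⊤ := hNm ▸ hall m le_rfl
  have hdegM : ∀ p, deg1 (⊤ : Submodule R M) ^ p = ⋀[R]^p M := fun p => by
    rw [deg1, Submodule.map_top]
  have hdegT : ∀ p, ∀ y ∈ deg1 (⊤ : Submodule R M) ^ p, ExteriorAlgebra.map T y ∈ deg1 (⊤ : Submodule R ((Fin c → R) × M)) ^ p :=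
    fun p y hy => pow_le_pow_left' (Submodule.map_mono le_top) _ (map_mem_deg1 T ⊤ p hy)
  obtain ⟨w', hw', hdw'⟩ := hR q _ (hdegT q _ (show (z : ExteriorAlgebra R M) ∈ _ by rw [hdegM q]; exact z.2))
    (by rw [contract_map, hχT, hz, map_zero]) _ (hdegT (q + 1) _ (show (w : ExteriorAlgebra R M) ∈ _ by rw [hdegM (q + 1)]; exact w.2))
    (by rw [contract_map, hχT, hw, map_smul])
  refine ⟨⟨ExteriorAlgebra.map S w', hdegM (q + 1) ▸
    pow_le_pow_left' (Submodule.map_mono le_top) _ (map_mem_deg1 S ⊤ _ hw')⟩, ?_⟩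
  show contractLeft φ (ExteriorAlgebra.map S w') = _
  rw [contract_map, hφS, hdw', ← AlgHom.comp_apply, ExteriorAlgebra.map_comp_map,
    show S ∘ₗ T = LinearMap.id from LinearMap.ext hST, ExteriorAlgebra.map_id, AlgHom.id_apply]

end Groth.Agent.KoszTw16
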