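import Groth.Agent.Lib.BasisHom
import Groth.Agent.QCoh.DevissageSum
import Groth.Agent.QCoh.Support
import Groth.Agent.QCoh.Extension
import Groth.Agent.QCoh.ClosedPush
import Groth.Agent.QCoh.Tilde
import Mathlib.Algebra.Homology.ShortComplex.HomologicalComplex
import Mathlib.CategoryTheory.Limits.Shapes.Pullback.HasPullback

/-!
Sections of finite sums, homology and pullbacks of modules on schemes.
-/

set_option autoImplicit false
set_option linter.style.haveILetI false
set_option backward.isDefEq.respectTransparency false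
set_option backward.isDefEq.respectTransparency.types false
set_option maxHeartbeats 400000

universe u

open CategoryTheory CategoryTheory.Limits AlgebraicGeometry TopologicalSpace Opposite
open Groth.Agent.AModX

noncomputable section

namespace Groth.Agent.KoszTw16

variable {X : Scheme.{u}}

attribute [local instance] QCoh.hasFiniteBiproducts

/-- A morphism as a linear map of sections. -/
def lin {M N : X.Modules} (φ : M ⟶ N) (U : X.Opens) : Γ(M, U) →ₗ[Γ(X, U)] Γ(N, U) where
  toFun := φ.app U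
  map_add' := map_add _
  map_smul' r x := φ.app_smul r x

theorem lin_apply {M N : X.Modules} (φ : M ⟶ N) (U : X.Opens) (x : Γ(M, U)) : lin φ U x = φ.app U x := rfl

/-- Sections of a finite sum. -/
theorem exists_sum_equiv {n : ℕ} (F : Fin n → X.Modules) (W : X.Opens) :
    ∃ e : (∀ i, Γ(F i, W)) ≃ₗ[Γ(X, W)] Γ(∐ F, W),
      ∀ c, e c = ∑ i, (Sigma.ι F i).app W (c i) := by
  let S : (∀ i, Γ(F i, W)) →ₗ[Γ(X, W)] Γ(∐ F, W) :=
    ∑ i, (lin (Sigma.ι F i) W).comp (LinearMap.proj i)
  have hS : ∀ c, S c = ∑ i, (Sigma.ι F i).app W (c i) := fun c => by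
    simp only [S, LinearMap.sum_apply, LinearMap.comp_apply, LinearMap.proj_apply]
    rfl
  let pr : ∀ j, (∐ F) ⟶ F j := fun j => Sigma.desc fun i =>
    if h : i = j then eqToHom (by rw [h]) else 0
  have hpr : ∀ (c : ∀ i, Γ(F i, W)) j, (pr j).app W (S c) = c j := by
    intro c j
    have key : ∀ i, Sigma.ι F i ≫ pr j = if h : i = j then eqToHom (by rw [h]) else 0 := fun i =>
      Sigma.ι_desc _ i
    rw [hS, map_sum, Finset.sum_eq_single j]
    · refine (congr(($(key j)).app W (c j)) : _).trans ?_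
      rw [dif_pos rfl]
      rfl
    · intro i _ hi
      refine (congr(($(key i)).app W (c i)) : _).trans ?_
      rw [dif_neg hi]
      rfl
    · exact fun h => absurd (Finset.mem_univ j) h
  have htot : (∑ j, pr j ≫ Sigma.ι F j) = 𝟙 (∐ F) := by
    refine Sigma.hom_ext _ _ fun i => ?_
    rw [Preadditive.comp_sum, Finset.sum_eq_single i, Category.comp_id, ← Category.assoc, Sigma.ι_desc,
      dif_pos rfl, eqToHom_refl, Category.id_comp]
    · intro j _ hj
      rw [← Category.assoc, Sigma.ι_desc, dif_neg (Ne.symm hj), zero_comp]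
    · exact fun h => absurd (Finset.mem_univ i) h
  refine ⟨LinearEquiv.ofBijective S ⟨fun a b h => funext fun j => by rw [← hpr a j, h, hpr b j],
    fun x => ⟨fun j => (pr j).app W x, ?_⟩⟩, hS⟩
  rw [hS]
  exact (QCoh.app_sum Finset.univ (fun j => pr j ≫ Sigma.ι F j) W x).symm.trans
    (congr(($htot).app W x) : _)

theorem isQCoh_sigma {n : ℕ} (F : Fin n → X.Modules) (h : ∀ i, Coh.IsQCoh (F i)) : Coh.IsQCoh (∐ F) :=
  (QCoh.isQCoh_iff_iso (Sigma.reindex (Equiv.ulift.{u, 0} : ULift.{u} (Fin n) ≃ Fin n) F)).1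
    (QCoh.isQCoh_colimit (Discrete.functor fun i : ULift.{u} (Fin n) => F i.down) fun j => h _)

section Homology

variable (K : ChainComplex X.Modules ℕ) {W : X.Opens}

theorem iCycles_injective (q : ℕ) : Function.Injective ((K.iCycles q).app W) :=
  QCoh.app_injective (K.iCycles q) W

theorem exists_cycle (q : ℕ) (z : Γ(K.X q, W))
    (h : (K.d q ((ComplexShape.down ℕ).next q)).app W z = 0) : ∃ w, (K.iCycles q).app W w = z :=
  BasisHom.exists_app_eq_of_exact
    (S := ShortComplex.mk (K.iCycles q) (K.d q _) (K.iCycles_d q _))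
    (ShortComplex.exact_of_f_is_kernel _ (K.cyclesIsKernel q _ rfl)) W z h

theorem isQCoh_cycles (hK : ∀ p, Coh.IsQCoh (K.X p)) (q : ℕ) : Coh.IsQCoh (K.cycles q) :=
  (QCoh.isQCoh_iff_iso ((K.cyclesIsKernel q _ rfl).conePointUniqueUpToIso (kernelIsKernel _))).2
    (QCoh.isQCoh_kernel (hK q) (hK _) _)

theorem isQCoh_homology (hK : ∀ p, Coh.IsQCoh (K.X p)) (q : ℕ) : Coh.IsQCoh (K.homology q) :=
  (QCoh.isQCoh_iff_iso ((K.homologyIsCokernel (q + 1) q (ChainComplex.prev ℕ q)).coconePointUniqueUpToIso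
    (cokernelIsCokernel _))).2 (QCoh.isQCoh_cokernel (hK _) (isQCoh_cycles K hK q) _)

theorem homologyπ_surjective (hK : ∀ p, Coh.IsQCoh (K.X p)) (q : ℕ) (hW : IsAffineOpen W) :
    Function.Surjective ((K.homologyπ q).app W) :=
  QCoh.app_surjective_of_epi (isQCoh_cycles K hK q) (isQCoh_homology K hK q) _ hW

theorem homologyπ_eq_zero (hK : ∀ p, Coh.IsQCoh (K.X p)) (q : ℕ) (hW : IsAffineOpen W)
    (w : Γ(K.cycles q, W)) (h : (K.homologyπ q).app W w = 0) :
    ∃ b, (K.toCycles (q + 1) q).app W b = w := by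
  let S := ShortComplex.mk (K.toCycles (q + 1) q) (K.homologyπ q) (K.toCycles_comp_homologyπ (q + 1) q)
  have hS : S.Exact := ShortComplex.exact_of_g_is_cokernel _
    (K.homologyIsCokernel (q + 1) q (ChainComplex.prev ℕ q))
  haveI : Epi (kernel.lift (K.homologyπ q) (K.toCycles (q + 1) q) (K.toCycles_comp_homologyπ (q + 1) q)) :=
    (ShortComplex.exact_iff_epi_kernel_lift S).1 hS
  obtain ⟨v, hv⟩ := QCoh.exists_kernel_lift (K.homologyπ q) W w h
  obtain ⟨b, hb⟩ := QCoh.app_surjective_of_epi (hK _)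
    (QCoh.isQCoh_kernel (isQCoh_cycles K hK q) (isQCoh_homology K hK q) _)
    (kernel.lift (K.homologyπ q) (K.toCycles (q + 1) q) (K.toCycles_comp_homologyπ (q + 1) q)) hW v
  refine ⟨b, ?_⟩
  rw [← hv, ← hb]
  exact (congr(($(kernel.lift_ι (K.homologyπ q) (K.toCycles (q + 1) q) (K.toCycles_comp_homologyπ (q + 1) q))).app W b) : _).symm

theorem homologyπ_toCycles (q : ℕ) (b : Γ(K.X (q + 1), W)) :
    (K.homologyπ q).app W ((K.toCycles (q + 1) q).app W b) = 0 :=
  (congr(($(K.toCycles_comp_homologyπ (q + 1) q)).app W b) : _)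

theorem iCycles_toCycles (q : ℕ) (b : Γ(K.X (q + 1), W)) :
    (K.iCycles q).app W ((K.toCycles (q + 1) q).app W b) = (K.d (q + 1) q).app W b :=
  (congr(($(K.toCycles_i (q + 1) q)).app W b) : _)

end Homology

section Pullback

variable {A B C : X.Modules} (f : A ⟶ C) (g : B ⟶ C) {W : X.Opens}

theorem pullback_sections_ext (p p' : Γ(pullback f g, W))
    (h₁ : (pullback.fst f g).app W p = (pullback.fst f g).app W p')
    (h₂ : (pullback.snd f g).app W p = (pullback.snd f g).app W p') : p = p' := by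
  let k : pullback f g ⟶ A ⊞ B := biprod.lift (pullback.fst f g) (pullback.snd f g)
  haveI : Mono k := ⟨fun {Z} a b e => pullback.hom_ext
    (by simpa [k] using congrArg (· ≫ biprod.fst) e) (by simpa [k] using congrArg (· ≫ biprod.snd) e)⟩
  refine QCoh.app_injective k W ?_
  have hk : ∀ y, k.app W y = (biprod.inl : A ⟶ A ⊞ B).app W ((pullback.fst f g).app W y) +
      (biprod.inr : B ⟶ A ⊞ B).app W ((pullback.snd f g).app W y) := fun y => by
    have e : k = pullback.fst f g ≫ biprod.inl + pullback.snd f g ≫ biprod.inr := biprod.lift_eq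
    exact (congr(($e).app W y) : _)
  rw [hk, hk, h₁, h₂]

/-- Pullbacks along a map with surjective sections of quasi-coherent modules are quasi-coherent. -/
theorem isQCoh_pullbackObj (hA : Coh.IsQCoh A) (hB : Coh.IsQCoh B) (hC : Coh.IsQCoh C)
    {ℬ : Set X.Opens} (hℬ : Opens.IsBasis ℬ) (hs : ∀ W ∈ ℬ, Function.Surjective ((pullback.snd f g).app W)) :
    Coh.IsQCoh (pullback f g) := by
  haveI : Epi (pullback.snd f g) := BasisHom.epi_of_basis hℬ _ fun W hW y => hs W hW y
  let k : kernel f ⟶ pullback f g := pullback.lift (kernel.ι f) 0 (by simp)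
  haveI : Mono k := ⟨fun {Z} a b e => by
    have := congrArg (· ≫ pullback.fst f g) e
    simpa [k, cancel_mono] using this⟩
  have hexact : (ShortComplex.mk k (pullback.snd f g) (pullback.lift_snd _ _ _)).Exact := by
    refine BasisHom.exact_of_basis hℬ _ fun W hW x hx => ?_
    change (pullback.snd f g).app W x = 0 at hx
    obtain ⟨a, ha⟩ := QCoh.exists_kernel_lift f W ((pullback.fst f g).app W x) (by
      refine (congr(($(pullback.condition (f := f) (g := g))).app W x) : _).trans ?_
      show g.app W ((pullback.snd f g).app W x) = 0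
      rw [hx, map_zero])
    refine ⟨a, pullback_sections_ext f g _ _ ?_ ?_⟩
    · exact (congr(($(pullback.lift_fst (kernel.ι f) (0 : kernel f ⟶ B) _)).app W a) : _).trans ha
    · exact (congr(($(pullback.lift_snd (kernel.ι f) (0 : kernel f ⟶ B) _)).app W a) : _).trans hx.symm
  exact QCoh.isQCoh_X₂ { exact := hexact, mono_f := inferInstance, epi_g := inferInstance }
    (QCoh.isQCoh_kernel hA hC f) hB

end Pullback

end Groth.Agent.KoszTw16
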