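import Groth.Agent.KoszTw16.Dec
import Groth.Agent.KoszTw16.Elem
import Groth.Agent.OmegaLib.IdealMod
import Groth.Agent.S8914
import Groth.Prelude.Def_BlowUp2
import Groth.Prelude.Def_ClSub2

/-!
The homology of the Koszul complex of divisors twisted by a common divisor.
-/

set_option autoImplicit false
set_option linter.style.haveILetI false
set_option backward.isDefEq.respectTransparency false
set_option backward.isDefEq.respectTransparency.types false
set_option maxHeartbeats 400000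

universe u

open CategoryTheory CategoryTheory.Limits AlgebraicGeometry TopologicalSpace Opposite
open Groth.Agent.AModX exteriorPower

noncomputable section

namespace Groth.Agent.KoszTw16

variable {X : Scheme.{u}}

section Scalar

variable {E E' : X.Modules} {s : E ⟶ Coh.structureModule X} {s' : E' ⟶ Coh.structureModule X}
  (C : KoszSh.Cx E s) (C' : KoszSh.Cx E' s') {W : X.Opens} (hW : IsAffineOpen W)
  (u : Γ(E, W) ≃ₗ[Γ(X, W)] Γ(E', W)) {x : Γ(X, W)}

/-- The comparison of terms over an affine open. -/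
def twLin (p : ℕ) : Γ(C.K.X p, W) →ₗ[Γ(X, W)] Γ(C'.K.X p, W) :=
  (C'.loc p ⟨W, hW⟩).symm.toLinearMap ∘ₗ exteriorPower.map p u.toLinearMap ∘ₗ (C.loc p ⟨W, hW⟩).toLinearMap

theorem twLin_bijective (p : ℕ) : Function.Bijective (twLin C C' hW u p) := by
  have h : Function.Bijective (exteriorPower.map p u.toLinearMap) :=
    ⟨exteriorPower.map_injective u.symm.toLinearMap (LinearMap.ext fun f => u.symm_apply_apply f),
      exteriorPower.map_surjective u.surjective⟩
  exact (C'.loc p ⟨W, hW⟩).symm.bijective.comp (h.comp (C.loc p ⟨W, hW⟩).bijective)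

theorem twLin_d_succ (hu : ∀ e, KoszSh.secForm s' W (u e) = x * KoszSh.secForm s W e) (p : ℕ)
    (y : Γ(C.K.X (p + 1), W)) :
    (C'.K.d (p + 1) p).app W (twLin C C' hW u (p + 1) y) = x • twLin C C' hW u p ((C.K.d (p + 1) p).app W y) := by
  obtain ⟨y, rfl⟩ := (C.loc (p + 1) ⟨W, hW⟩).symm.surjective y
  have hy : y ∈ Submodule.span Γ(X, W) (Set.range (ιMulti Γ(X, W) (p + 1) (M := Γ(E, W)))) := by
    rw [ιMulti_span]; trivial
  induction hy using Submodule.span_induction with
  | mem z hz =>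
    obtain ⟨e, rfl⟩ := hz
    simp only [twLin, LinearMap.comp_apply, LinearEquiv.coe_coe, LinearEquiv.apply_symm_apply,
      exteriorPower.map_apply_ιMulti]
    erw [C.rule p ⟨W, hW⟩, C'.rule p ⟨W, hW⟩, LinearEquiv.apply_symm_apply]
    rw [← map_smul]
    congr 1
    rw [KoszSh.dGen, KoszSh.dGen, map_sum, Finset.smul_sum]
    refine Finset.sum_congr rfl fun i _ => ?_
    rw [map_smul, exteriorPower.map_apply_ιMulti, smul_smul]
    congr 1
    rw [Function.comp_apply]
    erw [hu]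
    ring
  | zero => simp
  | add a b _ _ ha hb => simp only [map_add, smul_add, ha, hb]
  | smul r a _ ha => simp only [map_smul, Scheme.Modules.Hom.app_smul, ha, smul_comm r x]

theorem twLin_d (hu : ∀ e, KoszSh.secForm s' W (u e) = x * KoszSh.secForm s W e) (i j : ℕ)
    (y : Γ(C.K.X i, W)) :
    (C'.K.d i j).app W (twLin C C' hW u i y) = x • twLin C C' hW u j ((C.K.d i j).app W y) := by
  by_cases h : (ComplexShape.down ℕ).Rel i j
  · obtain rfl : j + 1 = i := h
    exact twLin_d_succ C C' hW u hu j y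
  · rw [C.K.shape _ _ h, C'.K.shape _ _ h]
    exact ((congrArg (x • ·) (map_zero (twLin C C' hW u j))).trans (smul_zero x)).symm

theorem res_twLin {W' : X.Opens} (hW' : IsAffineOpen W')
    (v : Γ(E, W') ≃ₗ[Γ(X, W')] Γ(E', W')) (i : W' ≤ W) (c : Γ(X, W'))
    (h : ∀ e, res E' i (u e) = v (c • res E i e)) (p : ℕ) (y : Γ(C.K.X p, W)) :
    res (C'.K.X p) i (twLin C C' hW u p y) = c ^ p • twLin C C' hW' v p (res (C.K.X p) i y) := by
  obtain ⟨y, rfl⟩ := (C.loc p ⟨W, hW⟩).symm.surjective y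
  have hy : y ∈ Submodule.span Γ(X, W) (Set.range (ιMulti Γ(X, W) p (M := Γ(E, W)))) := by
    rw [ιMulti_span]; trivial
  induction hy using Submodule.span_induction with
  | mem z hz =>
    obtain ⟨e, rfl⟩ := hz
    have h1 : res (C.K.X p) i ((C.loc p ⟨W, hW⟩).symm (ιMulti _ p e)) =
        (C.loc p ⟨W', hW'⟩).symm (ιMulti _ p fun j => res E i (e j)) := C.loc_res p ⟨W, hW⟩ ⟨W', hW'⟩ i e
    rw [h1]
    simp only [twLin, LinearMap.comp_apply, LinearEquiv.coe_coe, LinearEquiv.apply_symm_apply,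
      exteriorPower.map_apply_ιMulti]
    refine (C'.loc_res p ⟨W, hW⟩ ⟨W', hW'⟩ i _).trans ?_
    rw [← map_smul]
    congr 1
    rw [show (fun j => E'.val.map (homOfLE i).op ((⇑u ∘ e) j)) = fun j => c • v (res E i (e j)) from
      funext fun j => (h (e j)).trans (map_smul v c _)]
    rw [AlternatingMap.map_smul_univ, Finset.prod_const, Finset.card_univ, Fintype.card_fin]
    rfl
  | zero => simp only [map_zero, smul_zero]
  | add a b _ _ ha hb => simp only [map_add, smul_add, ha, hb]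
  | smul r a _ ha =>
    simp only [map_smul, res_smul, ha]
    exact smul_comm _ _ _

end Scalar

/-- A frame of an ideal module generates the ideal and is a nonzerodivisor. -/
theorem frame_spec' {I : X.IdealSheafData} {V : X.affineOpens} {e : Γ(ClSub.idealMod I, V.1)}
    (he : InvX.IsFrame e) :
    OmegaSh.idealSect I V.1 e ∈ nonZeroDivisors Γ(X, V.1) ∧ I.ideal V = Ideal.span {OmegaSh.idealSect I V.1 e} := by
  refine ⟨?_, le_antisymm (fun g hg => ?_) ?_⟩
  · rw [mem_nonZeroDivisors_iff_right]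
    intro r hr
    rw [← OmegaLib.idealSect_smul] at hr
    have h0 : r • e = 0 := OmegaLib.idealSect_injective I V.1 (hr.trans (map_zero _).symm)
    have := (he V.1 le_rfl).1 (a₁ := r) (a₂ := 0)
    simp only [AModX.res_self, zero_smul] at this
    exact this h0
  · obtain ⟨c, hc⟩ := OmegaLib.exists_of_mem I V g hg
    obtain ⟨r, hr⟩ := he.exists_coord le_rfl c
    rw [AModX.res_self] at hr
    rw [← hc, hr, OmegaLib.idealSect_smul]
    exact Ideal.mul_mem_left _ r (Ideal.mem_span_singleton_self _)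
  · rw [Ideal.span_singleton_le_iff_mem]
    exact OmegaLib.idealSect_mem I V e

theorem isInvertible_mul' {A B : X.IdealSheafData} (hA : PicF.IsInvertible (ClSub.idealMod A))
    (hB : PicF.IsInvertible (ClSub.idealMod B)) : PicF.IsInvertible (ClSub.idealMod (A * B)) := by
  refine (S8914.result _).2 fun x => ?_
  obtain ⟨U₁, hx₁, a₀, ha₀⟩ := InvX.exists_frame hA x
  obtain ⟨U₂, hx₂, b₀, hb₀⟩ := InvX.exists_frame hB x
  obtain ⟨V, hV, hxV, hVU⟩ := exists_isAffineOpen_mem_and_subset (x := x) (U := U₁ ⊓ U₂) ⟨hx₁, hx₂⟩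
  obtain ⟨h1, h1'⟩ := frame_spec' (V := ⟨V, hV⟩) (ha₀.res (show V ≤ U₁ from fun y hy => (hVU hy).1))
  obtain ⟨h2, h2'⟩ := frame_spec' (V := ⟨V, hV⟩) (hb₀.res (show V ≤ U₂ from fun y hy => (hVU hy).2))
  refine ⟨⟨V, hV⟩, hxV, _, mul_mem h1 h2, ?_⟩
  rw [Scheme.IdealSheafData.ideal_mul, Pi.mul_apply, h1', h2', Ideal.span_singleton_mul_span_singleton]

section Divisors

variable {n : ℕ} (IY : Fin n → X.IdealSheafData) (ID : X.IdealSheafData)

/-- The sum of the ideal modules. -/
abbrev sumMod : X.Modules := ∐ fun i => ClSub.idealMod (IY i)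

/-- The cosection of the sum of the ideal modules. -/
abbrev sumSec : sumMod IY ⟶ Coh.structureModule X := Limits.Sigma.desc fun i => ClSub.idealModι (IY i)

theorem secForm_ι (W : X.Opens) (i : Fin n) (a : Γ(ClSub.idealMod (IY i), W)) :
    KoszSh.secForm (sumSec IY) W ((Sigma.ι (fun i => ClSub.idealMod (IY i)) i).app W a) =
      OmegaSh.idealSect (IY i) W a := by
  rw [KoszSh.secForm_apply, OmegaSh.idealSect_apply]
  exact congrArg (OmegaSh.fnSect X W)
    (congr(($(Sigma.ι_desc (fun i => ClSub.idealModι (IY i)) i)).app W a) : _)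

/-- Affine opens on which all the ideals are free and the divisor has a frame. -/
def Good' : Set X.Opens :=
  {W | IsAffineOpen W ∧ (∀ i, ∃ a : Γ(ClSub.idealMod (IY i), W), InvX.IsFrame a) ∧
    ∃ j : Γ(ClSub.idealMod ID, W), InvX.IsFrame j}

theorem isBasis_good' (hY : ∀ i, BlowUp.IsEffCartierIdeal (IY i)) (hD : BlowUp.IsEffCartierIdeal ID) :
    Opens.IsBasis (Good' IY ID) := by
  rw [Opens.isBasis_iff_nbhd]
  intro V x hx
  choose U hxU a ha using fun i => InvX.exists_frame ((S8914.result (IY i)).2 (hY i)) x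
  obtain ⟨U₀, hx₀, j, hj⟩ := InvX.exists_frame ((S8914.result ID).2 hD) x
  obtain ⟨_, ⟨W, hW, rfl⟩, hxW, hWle⟩ := X.isBasis_affineOpens.exists_subset_of_mem_open
    (show x ∈ ((V ⊓ U₀ : X.Opens) : Set X) ∩ ⋂ i, (U i : Set X) from ⟨⟨hx, hx₀⟩, Set.mem_iInter.2 hxU⟩)
    (((V ⊓ U₀).2).inter (isOpen_iInter_of_finite fun i => (U i).2))
  exact ⟨W, ⟨hW, fun i => ⟨_, (ha i).res (fun y hy => Set.mem_iInter.1 (hWle hy).2 i)⟩,
    _, hj.res (fun y hy => (hWle hy).1.2)⟩, hxW, fun y hy => (hWle hy).1.1⟩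

theorem free_sumMod {W : X.Opens} (hW : W ∈ Good' IY ID) : Module.Free Γ(X, W) Γ(sumMod IY, W) := by
  obtain ⟨e, -⟩ := exists_sum_equiv (fun i => ClSub.idealMod (IY i)) W
  choose a ha using hW.2.1
  haveI : ∀ i, Module.Free Γ(X, W) Γ(ClSub.idealMod (IY i), W) := fun i =>
    Module.Free.of_equiv (LinearEquiv.ofBijective (LinearMap.toSpanSingleton Γ(X, W) _ (a i)) (by
      have := ha i W le_rfl
      simp only [res_self] at this
      exact this))
  exact Module.Free.of_equiv e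

/-- The comparison of sums of ideals by a local equation of the divisor. -/
def IsTw {W : X.Opens} (x : Γ(X, W))
    (u : Γ(sumMod IY, W) →ₗ[Γ(X, W)] Γ(sumMod fun i => IY i * ID, W)) : Prop :=
  ∀ i (a : Γ(ClSub.idealMod (IY i), W)), ∃ b : Γ(ClSub.idealMod (IY i * ID), W),
    u ((Sigma.ι (fun i => ClSub.idealMod (IY i)) i).app W a) =
        (Sigma.ι (fun i => ClSub.idealMod (IY i * ID)) i).app W b ∧
      OmegaSh.idealSect (IY i * ID) W b = x * OmegaSh.idealSect (IY i) W a

theorem exists_tw {W : X.Opens} (hW : IsAffineOpen W) {x : Γ(X, W)} (hx : x ∈ nonZeroDivisors Γ(X, W))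
    (hJ : ID.ideal ⟨W, hW⟩ = Ideal.span {x}) :
    ∃ u : Γ(sumMod IY, W) ≃ₗ[Γ(X, W)] Γ(sumMod fun i => IY i * ID, W), IsTw IY ID x u.toLinearMap := by
  have hprod : ∀ i, (IY i * ID).ideal ⟨W, hW⟩ = (IY i).ideal ⟨W, hW⟩ * Ideal.span {x} := fun i => by
    rw [Scheme.IdealSheafData.ideal_mul, Pi.mul_apply, hJ]
  have hex : ∀ i (a : Γ(ClSub.idealMod (IY i), W)), ∃ b,
      OmegaSh.idealSect (IY i * ID) W b = x * OmegaSh.idealSect (IY i) W a := fun i a =>
    OmegaLib.exists_of_mem (IY i * ID) ⟨W, hW⟩ _ (by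
      rw [hprod i, mul_comm x]
      exact Ideal.mul_mem_mul (OmegaLib.idealSect_mem (IY i) ⟨W, hW⟩ a) (Ideal.mem_span_singleton_self x))
  choose b hb using hex
  let ψ : ∀ i, Γ(ClSub.idealMod (IY i), W) →ₗ[Γ(X, W)] Γ(ClSub.idealMod (IY i * ID), W) := fun i =>
    { toFun := b i
      map_add' := fun a a' => OmegaLib.idealSect_injective _ W (by rw [map_add, hb, hb, hb, map_add, mul_add])
      map_smul' := fun r a => OmegaLib.idealSect_injective _ W (by
        rw [RingHom.id_apply, OmegaLib.idealSect_smul, hb, hb, OmegaLib.idealSect_smul]; ring) }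
  have hψ : ∀ i, Function.Bijective (ψ i) := fun i => by
    refine ⟨fun a a' h => OmegaLib.idealSect_injective _ W ?_, fun c => ?_⟩
    · have h2 := congrArg (OmegaSh.idealSect (IY i * ID) W) h
      change OmegaSh.idealSect (IY i * ID) W (b i a) = OmegaSh.idealSect (IY i * ID) W (b i a') at h2
      rw [hb, hb] at h2
      exact sub_eq_zero.1 (mem_nonZeroDivisors_iff_right.1 hx _ (by rw [sub_mul, mul_comm, h2, mul_comm, sub_self]))
    · have hc := OmegaLib.idealSect_mem (IY i * ID) ⟨W, hW⟩ c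
      rw [hprod i, Ideal.mem_mul_span_singleton] at hc
      obtain ⟨z, hz, hzc⟩ := hc
      obtain ⟨a, ha⟩ := OmegaLib.exists_of_mem (IY i) ⟨W, hW⟩ z hz
      exact ⟨a, OmegaLib.idealSect_injective _ W ((hb i a).trans (by rw [ha, mul_comm, hzc]))⟩
  obtain ⟨e, he⟩ := exists_sum_equiv (fun i => ClSub.idealMod (IY i)) W
  obtain ⟨e', he'⟩ := exists_sum_equiv (fun i => ClSub.idealMod (IY i * ID)) W
  refine ⟨e.symm.trans ((LinearEquiv.piCongrRight fun i => LinearEquiv.ofBijective (ψ i) (hψ i)).trans e'),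
    fun i a => ⟨b i a, ?_, hb i a⟩⟩
  have h1 : e (Pi.single i a) = (Sigma.ι (fun i => ClSub.idealMod (IY i)) i).app W a := by
    rw [he, Finset.sum_eq_single i (fun j _ hj => by rw [Pi.single_eq_of_ne hj, map_zero])
      (fun h => absurd (Finset.mem_univ i) h), Pi.single_eq_same]
  rw [← h1]
  show e' (fun j => ψ j ((e.symm (e (Pi.single i a))) j)) = _
  rw [LinearEquiv.symm_apply_apply, he', Finset.sum_eq_single i
    (fun j _ hj => by rw [Pi.single_eq_of_ne hj, map_zero, map_zero])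
    (fun h => absurd (Finset.mem_univ i) h), Pi.single_eq_same]
  rfl

theorem secForm_tw {W : X.Opens} {x : Γ(X, W)}
    {u : Γ(sumMod IY, W) →ₗ[Γ(X, W)] Γ(sumMod fun i => IY i * ID, W)} (hu : IsTw IY ID x u)
    (e : Γ(sumMod IY, W)) :
    KoszSh.secForm (sumSec fun i => IY i * ID) W (u e) = x * KoszSh.secForm (sumSec IY) W e := by
  obtain ⟨eq, heq⟩ := exists_sum_equiv (fun i => ClSub.idealMod (IY i)) W
  obtain ⟨c, rfl⟩ := eq.surjective e
  rw [heq, map_sum, map_sum, map_sum, Finset.mul_sum]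
  refine Finset.sum_congr rfl fun i _ => ?_
  obtain ⟨b, hb, hb'⟩ := hu i (c i)
  rw [hb, secForm_ι (fun i => IY i * ID), secForm_ι IY, hb']

theorem res_tw {W W' : X.Opens} {x : Γ(X, W)} {x' c : Γ(X, W')} (i : W' ≤ W) (hc : resR i x = c * x')
    {u : Γ(sumMod IY, W) →ₗ[Γ(X, W)] Γ(sumMod fun i => IY i * ID, W)} (hu : IsTw IY ID x u)
    {v : Γ(sumMod IY, W') →ₗ[Γ(X, W')] Γ(sumMod fun i => IY i * ID, W')} (hv : IsTw IY ID x' v)
    (e : Γ(sumMod IY, W)) : res _ i (u e) = v (c • res _ i e) := by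
  obtain ⟨eq, heq⟩ := exists_sum_equiv (fun i => ClSub.idealMod (IY i)) W
  obtain ⟨d, rfl⟩ := eq.surjective e
  rw [heq, map_sum, map_sum, map_sum, Finset.smul_sum, map_sum]
  refine Finset.sum_congr rfl fun k _ => ?_
  obtain ⟨b, hb, hb'⟩ := hu k (d k)
  obtain ⟨b₂, hb₂, hb₂'⟩ := hv k (c • res _ i (d k))
  rw [hb, ← app_res, ← app_res, ← Scheme.Modules.Hom.app_smul, hb₂]
  congr 1
  refine OmegaLib.idealSect_injective _ W' ?_
  show OmegaSh.idealSect (IY k * ID) W' ((ClSub.idealMod (IY k * ID)).presheaf.map (homOfLE i).op b) = _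
  rw [OmegaLib.idealSect_map, hb', map_mul, hb₂', OmegaLib.idealSect_smul]
  show resR i x * _ = x' * (c * OmegaSh.idealSect (IY k) W'
    ((ClSub.idealMod (IY k)).presheaf.map (homOfLE i).op (d k)))
  rw [hc, OmegaLib.idealSect_map]
  ring

end Divisors

end Groth.Agent.KoszTw16
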