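import Groth.Agent.KoszTw16.Divisors
import Mathlib.RingTheory.Flat.TorsionFree

/-!
Homology of twisted Koszul complexes of divisors.
-/

set_option autoImplicit false
set_option linter.style.haveILetI false
set_option backward.isDefEq.respectTransparency false
set_option backward.isDefEq.respectTransparency.types false
set_option maxHeartbeats 400000

universe u

open CategoryTheory CategoryTheory.Limits AlgebraicGeometry TopologicalSpace Opposite
open Groth.Agent.AModX

noncomputable section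

namespace Groth.Agent.KoszTw16

variable {X : Scheme.{u}}

section Mixed

variable (ID : X.IdealSheafData) (M : X.Modules) {H : X.Modules} (π : M ⟶ H)

/-- The pushforward of the pullback to a closed subscheme. -/
abbrev closedFun : X.Modules ⥤ X.Modules :=
  Scheme.Modules.pullback ID.subschemeι ⋙ Scheme.Modules.pushforward ID.subschemeι

/-- The unit of restriction to a closed subscheme. -/
abbrev closedUnit : M ⟶ (closedFun ID).obj M :=
  (Scheme.Modules.pullbackPushforwardAdjunction ID.subschemeι).unit.app M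

/-- The map to the pullback of `π ⊗ O_D` along the unit. -/
def toMixed : M ⟶ pullback ((closedFun ID).map π) (closedUnit ID H) :=
  pullback.lift (closedUnit ID M) π ((Scheme.Modules.pullbackPushforwardAdjunction ID.subschemeι).unit.naturality π).symm

variable {ID} {M} {π}

theorem toMixed_fst (W : X.Opens) (m : Γ(M, W)) :
    (pullback.fst ((closedFun ID).map π) (closedUnit ID H)).app W ((toMixed ID M π).app W m) =
      (closedUnit ID M).app W m :=
  (congr(($(pullback.lift_fst (f := (closedFun ID).map π) (g := closedUnit ID H) (closedUnit ID M) π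
    ((Scheme.Modules.pullbackPushforwardAdjunction ID.subschemeι).unit.naturality π).symm)).app W m) : _)

theorem toMixed_snd (W : X.Opens) (m : Γ(M, W)) :
    (pullback.snd ((closedFun ID).map π) (closedUnit ID H)).app W ((toMixed ID M π).app W m) = π.app W m :=
  (congr(($(pullback.lift_snd (f := (closedFun ID).map π) (g := closedUnit ID H) (closedUnit ID M) π
    ((Scheme.Modules.pullbackPushforwardAdjunction ID.subschemeι).unit.naturality π).symm)).app W m) : _)

theorem unit_eq_zero_iff {N : X.Modules} (hN : Coh.IsQCoh N) {W : X.Opens} (hW : IsAffineOpen W) {x : Γ(X, W)}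
    (hx : ID.ideal ⟨W, hW⟩ = Ideal.span {x}) (m : Γ(N, W)) :
    (closedUnit ID N).app W m = 0 ↔ ∃ m', x • m' = m := by
  refine ((QCoh.unit_app_closed ID.subschemeι hN hW).2 m).trans ?_
  rw [Scheme.IdealSheafData.ker_subschemeι, hx,
    Submodule.ideal_span_singleton_smul]
  simp [Submodule.mem_smul_pointwise_iff_exists]

variable (hM : Coh.IsQCoh M) (hH : Coh.IsQCoh H) [Epi π] {W : X.Opens} (hW : IsAffineOpen W) {x : Γ(X, W)}
  (hx : ID.ideal ⟨W, hW⟩ = Ideal.span {x})

include hM hH hW hx in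
theorem toMixed_surjective : Function.Surjective ((toMixed ID M π).app W) := by
  intro p
  obtain ⟨z, hz⟩ := QCoh.app_surjective_of_epi hM hH π hW
    ((pullback.snd ((closedFun ID).map π) (closedUnit ID H)).app W p)
  obtain ⟨z₁, hz₁⟩ : ∃ z₁ : Γ(M, W), (closedUnit ID M).app W z₁ =
      (pullback.fst ((closedFun ID).map π) (closedUnit ID H)).app W p :=
    (QCoh.unit_app_closed ID.subschemeι hM hW).1 _
  have hdiff : (closedUnit ID H).app W (π.app W z₁ - π.app W z) = 0 := by
    have h1 : (closedUnit ID H).app W (π.app W z₁) = ((closedFun ID).map π).app W ((closedUnit ID M).app W z₁) :=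
      (congr(($((Scheme.Modules.pullbackPushforwardAdjunction ID.subschemeι).unit.naturality π)).app W z₁) : _)
    rw [map_sub, h1, hz₁, hz, sub_eq_zero]
    exact (congr(($(pullback.condition (f := (closedFun ID).map π) (g := closedUnit ID H))).app W p) : _)
  obtain ⟨h', hh'⟩ := (unit_eq_zero_iff hH hW hx _).1 hdiff
  obtain ⟨z₂, rfl⟩ := QCoh.app_surjective_of_epi hM hH π hW h'
  refine ⟨z₁ - x • z₂, pullback_sections_ext _ _ _ _ ?_ ?_⟩
  · rw [toMixed_fst, map_sub, (unit_eq_zero_iff hM hW hx (x • z₂)).2 ⟨z₂, rfl⟩, sub_zero, hz₁]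
  · rw [toMixed_snd, map_sub, Scheme.Modules.Hom.app_smul, hh', ← hz]
    abel

include hM hW hx in
theorem toMixed_eq_zero_iff (hreg : IsSMulRegular Γ(H, W) x) (z : Γ(M, W)) :
    (toMixed ID M π).app W z = 0 ↔ ∃ z', x • z' = z ∧ π.app W z' = 0 := by
  refine ⟨fun h => ?_, fun ⟨z', h1, h2⟩ => pullback_sections_ext _ _ _ _ ?_ ?_⟩
  · obtain ⟨z', rfl⟩ := (unit_eq_zero_iff hM hW hx z).1 (by rw [← toMixed_fst, h, map_zero])
    refine ⟨z', rfl, hreg ?_⟩
    show x • π.app W z' = x • (0 : Γ(H, W))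
    rw [smul_zero, ← Scheme.Modules.Hom.app_smul, ← toMixed_snd, h, map_zero]
  · rw [toMixed_fst, map_zero]
    exact (unit_eq_zero_iff hM hW hx z).2 ⟨z', h1⟩
  · rw [toMixed_snd, map_zero, ← h1, Scheme.Modules.Hom.app_smul, h2, smul_zero]

theorem isQCoh_mixed (hM : Coh.IsQCoh M) (hH : Coh.IsQCoh H) {ℬ : Set X.Opens} (hℬ : Opens.IsBasis ℬ)
    (hℬa : ∀ W ∈ ℬ, IsAffineOpen W) :
    Coh.IsQCoh (pullback ((closedFun ID).map π) (closedUnit ID H)) := by
  have hF : ∀ {N : X.Modules}, Coh.IsQCoh N → Coh.IsQCoh ((closedFun ID).obj N) := fun hN =>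
    QCoh.isQCoh_pushforward ID.subschemeι (QCoh.isQCoh_pullback ID.subschemeι hN)
  refine isQCoh_pullbackObj _ _ (hF hM) hH (hF hH) hℬ fun W hW y => ?_
  obtain ⟨z, hz⟩ := QCoh.app_surjective_of_epi hM hH π (hℬa W hW) y
  exact ⟨_, (toMixed_snd W z).trans hz⟩

end Mixed

theorem tprod_const_smul (L : X.Modules) {W : X.Opens} (q : ℕ) (c : Γ(X, W)) (l : Γ(L, W)) :
    KoszTw.tprod L q W (fun _ => c • l) = c ^ q • KoszTw.tprod L q W fun _ => l := by
  rw [tprod_smul L q (fun _ => c) fun _ => l, Finset.prod_const, Finset.card_univ, Fintype.card_fin]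

section Main

variable {n : ℕ} {IY : Fin n → X.IdealSheafData} {ID : X.IdealSheafData}
  (C : KoszSh.Cx (sumMod IY) (sumSec IY))
  (C' : KoszSh.Cx (sumMod fun i => IY i * ID) (sumSec fun i => IY i * ID))

/-- The target of the comparison. -/
abbrev target (ID : X.IdealSheafData) (q : ℕ) : X.Modules :=
  CohB1.tensorMod (pullback ((closedFun ID).map (C.K.homologyπ q)) (closedUnit ID (C.K.homology q)))
    (CohB1.tensorPow (ClSub.idealMod ID) q)

/-- The local rule of the comparison. -/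
def Rel (q : ℕ) {W : X.Opens} (hW : IsAffineOpen W) (j : Γ(ClSub.idealMod ID, W))
    (u : Γ(sumMod IY, W) ≃ₗ[Γ(X, W)] Γ(sumMod fun i => IY i * ID, W)) (z' : Γ(C'.K.cycles q, W))
    (r : Γ(target C ID q, W)) : Prop :=
  ∃ z : Γ(C.K.cycles q, W), (C'.K.iCycles q).app W z' = twLin C C' hW u q ((C.K.iCycles q).app W z) ∧
    r = SecTwist.tmul _ (CohB1.tensorPow (ClSub.idealMod ID) q) W
      ((toMixed ID (C.K.cycles q) (C.K.homologyπ q)).app W z)
      (KoszTw.tprod (ClSub.idealMod ID) q W fun _ => j)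

variable {C C'} {q : ℕ} {W : X.Opens} {hW : IsAffineOpen W} {j : Γ(ClSub.idealMod ID, W)}
  {u : Γ(sumMod IY, W) ≃ₗ[Γ(X, W)] Γ(sumMod fun i => IY i * ID, W)}

theorem Rel.unique {z' : Γ(C'.K.cycles q, W)} {r r' : Γ(target C ID q, W)} (h : Rel C C' q hW j u z' r)
    (h' : Rel C C' q hW j u z' r') : r = r' := by
  obtain ⟨z, hz, rfl⟩ := h
  obtain ⟨w, hw, rfl⟩ := h'
  rw [iCycles_injective C.K q ((twLin_bijective C C' hW u q).1 (hz.symm.trans hw))]

theorem Rel.add {a b : Γ(C'.K.cycles q, W)} {r r' : Γ(target C ID q, W)} (h : Rel C C' q hW j u a r)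
    (h' : Rel C C' q hW j u b r') : Rel C C' q hW j u (a + b) (r + r') := by
  obtain ⟨z, hz, rfl⟩ := h
  obtain ⟨w, hw, rfl⟩ := h'
  exact ⟨z + w, by rw [map_add, map_add, map_add, hz, hw], by
    rw [map_add]
    exact ((tmulRight W (KoszTw.tprod (ClSub.idealMod ID) q W fun _ => j)).map_add _ _).symm⟩

theorem Rel.smul {a : Γ(C'.K.cycles q, W)} {r : Γ(target C ID q, W)} (h : Rel C C' q hW j u a r) (c : Γ(X, W)) :
    Rel C C' q hW j u (c • a) (c • r) := by
  obtain ⟨z, hz, rfl⟩ := h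
  exact ⟨c • z, by rw [Scheme.Modules.Hom.app_smul, Scheme.Modules.Hom.app_smul, map_smul, hz], by
    rw [Scheme.Modules.Hom.app_smul]
    exact ((tmulRight W (KoszTw.tprod (ClSub.idealMod ID) q W fun _ => j)).map_smul _ _).symm⟩

theorem Rel.res {W' : X.Opens} {hW' : IsAffineOpen W'} {j' : Γ(ClSub.idealMod ID, W')}
    {v : Γ(sumMod IY, W') ≃ₗ[Γ(X, W')] Γ(sumMod fun i => IY i * ID, W')} {a : Γ(C'.K.cycles q, W)}
    {r : Γ(target C ID q, W)} (i : W' ≤ W) (hj' : InvX.IsFrame j')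
    (hu : IsTw IY ID (OmegaSh.idealSect ID W j) u.toLinearMap)
    (hv : IsTw IY ID (OmegaSh.idealSect ID W' j') v.toLinearMap) (h : Rel C C' q hW j u a r) :
    Rel C C' q hW' j' v (AModX.res _ i a) (AModX.res _ i r) := by
  obtain ⟨z, hz, rfl⟩ := h
  obtain ⟨c, hc⟩ := hj'.exists_coord le_rfl (AModX.res _ i j)
  rw [res_self] at hc
  have hc' : resR i (OmegaSh.idealSect ID W j) = c * OmegaSh.idealSect ID W' j' := by
    rw [← OmegaLib.idealSect_smul, ← hc]
    exact (OmegaLib.idealSect_map ID i j).symm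
  refine ⟨c ^ q • AModX.res _ i z, ?_, ?_⟩
  · rw [app_res, hz, res_twLin C C' hW u hW' v i c (res_tw IY ID i hc' hu hv), Scheme.Modules.Hom.app_smul,
      map_smul, app_res]
  · rw [res_tmul, res_tprod, hc, tprod_const_smul, Scheme.Modules.Hom.app_smul, ← app_res]
    exact (QCoh.tmS_smul_right _ _ _ _ _).trans (QCoh.tmS_smul_left _ _ _ _ _).symm

/-- The Koszul homology of the twisted divisors. -/
theorem nonempty_homology_iso (hY : ∀ i, BlowUp.IsEffCartierIdeal (IY i)) (hD : BlowUp.IsEffCartierIdeal ID)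
    (C : KoszSh.Cx (sumMod IY) (sumSec IY))
    (C' : KoszSh.Cx (sumMod fun i => IY i * ID) (sumSec fun i => IY i * ID)) (q : ℕ)
    (hreg : ∀ (U : X.affineOpens) (x : Γ(X, U.1)), x ∈ nonZeroDivisors Γ(X, U.1) → ID.ideal U = Ideal.span {x} →
      IsSMulRegular Γ(C.K.homology q, U.1) x) :
    Nonempty (C'.K.homology q ≅ target C ID q) := by
  have hB := isBasis_good' IY ID hY hD
  have hmulY : ∀ i, PicF.IsInvertible (ClSub.idealMod (IY i * ID)) := fun i =>
    isInvertible_mul' ((S8914.result _).2 (hY i)) ((S8914.result _).2 hD)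
  have hE : Coh.IsQCoh (sumMod IY) :=
    isQCoh_sigma _ fun i => isQCoh_of_isInvertible ((S8914.result _).2 (hY i))
  have hE' : Coh.IsQCoh (sumMod fun i => IY i * ID) := isQCoh_sigma _ fun i => isQCoh_of_isInvertible (hmulY i)
  have hC : ∀ p, Coh.IsQCoh (C.K.X p) := isQCoh_term C hE
  have hC' : ∀ p, Coh.IsQCoh (C'.K.X p) := isQCoh_term C' hE'
  have hP : Coh.IsQCoh (pullback ((closedFun ID).map (C.K.homologyπ q)) (closedUnit ID (C.K.homology q))) :=
    isQCoh_mixed (isQCoh_cycles C.K hC q) (isQCoh_homology C.K hC q) hB fun W hW => hW.1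
  have hL : Coh.IsQCoh (CohB1.tensorPow (ClSub.idealMod ID) q) :=
    isQCoh_of_isInvertible (InvX.isInvertible_tensorPow ((S8914.result _).2 hD) q)
  choose fr hfr using fun W (hW : W ∈ Good' IY ID) => hW.2.2
  have hspec := fun W (hW : W ∈ Good' IY ID) => frame_spec' (V := ⟨W, hW.1⟩) (hfr W hW)
  choose u hu using fun W (hW : W ∈ Good' IY ID) => exists_tw IY ID hW.1 (hspec W hW).1 (hspec W hW).2
  have hflat : ∀ W (hW : W ∈ Good' IY ID) p, IsSMulRegular Γ(C.K.X p, W) (OmegaSh.idealSect ID W (fr W hW)) := by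
    intro W hW p
    haveI := free_sumMod IY ID hW
    haveI : Module.Free Γ(X, W) Γ(C.K.X p, W) := Module.Free.of_equiv (C.loc p ⟨W, hW.1⟩).symm
    exact Module.Flat.isSMulRegular_of_nonZeroDivisors (hspec W hW).1
  have hd : ∀ W (hW : W ∈ Good' IY ID) (i k : ℕ) y, (C'.K.d i k).app W (twLin C C' hW.1 (u W hW) i y) =
      OmegaSh.idealSect ID W (fr W hW) • twLin C C' hW.1 (u W hW) k ((C.K.d i k).app W y) :=
    fun W hW => twLin_d C C' hW.1 (u W hW) fun e => secForm_tw IY ID (hu W hW) e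
  have hex : ∀ W (hW : W ∈ Good' IY ID) (z' : Γ(C'.K.cycles q, W)),
      ∃ r, Rel C C' q hW.1 (fr W hW) (u W hW) z' r := by
    intro W hW z'
    obtain ⟨y, hy⟩ := (twLin_bijective C C' hW.1 (u W hW) q).2 ((C'.K.iCycles q).app W z')
    obtain ⟨z, hz⟩ := exists_cycle C.K q y (by
      refine (twLin_bijective C C' hW.1 (u W hW) _).1 ?_
      have h0 : (C'.K.d q ((ComplexShape.down ℕ).next q)).app W ((C'.K.iCycles q).app W z') = 0 :=
        (congr(($(C'.K.iCycles_d q _)).app W z') : _)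
      rw [← hy, hd] at h0
      rw [← map_smul] at h0
      have h1 := (twLin_bijective C C' hW.1 (u W hW) _).1 (h0.trans (map_zero _).symm)
      rw [hflat W hW _ (h1.trans (smul_zero _).symm)])
    exact ⟨_, z, by rw [hz, hy], rfl⟩
  choose g hg using hex
  obtain ⟨χ, hχ⟩ := BasisHom.exists_hom hB g
    (fun W hW W' hW' i a => ((hg W hW a).res i (hfr W' hW') (hu W hW) (hu W' hW')).unique (hg W' hW' _))
    (fun W hW a b => (hg W hW _).unique ((hg W hW a).add (hg W hW b)))
    (fun W hW c a => (hg W hW _).unique ((hg W hW a).smul c))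
  have hrel : ∀ W (hW : W ∈ Good' IY ID) z', Rel C C' q hW.1 (fr W hW) (u W hW) z' (χ.app W z') :=
    fun W hW z' => (hχ W hW z').symm ▸ hg W hW z'
  haveI : Epi χ := BasisHom.epi_of_basis hB χ fun W hW r => by
    obtain ⟨p, hp⟩ := (tmul_frame_bijective hP hL hW.1 (isFrame_tprod (hfr W hW) q)).2 r
    obtain ⟨z, rfl⟩ := toMixed_surjective (isQCoh_cycles C.K hC q) (isQCoh_homology C.K hC q) hW.1
      (hspec W hW).2 p
    obtain ⟨z', hz'⟩ := exists_cycle C'.K q (twLin C C' hW.1 (u W hW) q ((C.K.iCycles q).app W z)) (by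
      rw [hd, show (C.K.d q _).app W ((C.K.iCycles q).app W z) = 0 from
        (congr(($(C.K.iCycles_d q _)).app W z) : _), map_zero, smul_zero])
    exact ⟨z', (hrel W hW z').unique ⟨z, hz', hp.symm⟩⟩
  have hker : ∀ W (hW : W ∈ Good' IY ID) z', χ.app W z' = 0 →
      ∃ b, (C'.K.toCycles (q + 1) q).app W b = z' := by
    intro W hW z' h0
    obtain ⟨z, hz, hr⟩ := hrel W hW z'
    rw [h0] at hr
    have hz0 := (tmul_eq_zero_iff hP hL hW.1 (isFrame_tprod (hfr W hW) q) _).1 hr.symm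
    obtain ⟨w, rfl, hw⟩ := (toMixed_eq_zero_iff (isQCoh_cycles C.K hC q) hW.1 (hspec W hW).2
      (hreg ⟨W, hW.1⟩ _ (hspec W hW).1 (hspec W hW).2) z).1 hz0
    obtain ⟨b, rfl⟩ := homologyπ_eq_zero C.K hC q hW.1 w hw
    refine ⟨twLin C C' hW.1 (u W hW) (q + 1) b, iCycles_injective C'.K q ?_⟩
    rw [iCycles_toCycles, hd, hz, Scheme.Modules.Hom.app_smul, iCycles_toCycles, map_smul]
  have w : C'.K.toCycles (q + 1) q ≫ χ = 0 := by
    refine Scheme.Modules.hom_ext _ _ fun V => ?_
    ext b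
    refine BasisHom.eq_of_basis hB _ _ fun W hW i => ?_
    show res _ i (χ.app V ((C'.K.toCycles (q + 1) q).app V b)) = res _ i (0 : Γ(target C ID q, V))
    rw [map_zero, ← app_res, ← app_res]
    obtain ⟨y, hy⟩ := (twLin_bijective C C' hW.1 (u W hW) (q + 1)).2 (res _ i b)
    refine (hrel W hW _).unique ⟨OmegaSh.idealSect ID W (fr W hW) • (C.K.toCycles (q + 1) q).app W y, ?_, ?_⟩
    · rw [iCycles_toCycles, ← hy, hd, Scheme.Modules.Hom.app_smul, iCycles_toCycles, map_smul]
    · refine ((tmul_eq_zero_iff hP hL hW.1 (isFrame_tprod (hfr W hW) q) _).2 ?_).symm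
      refine (toMixed_eq_zero_iff (isQCoh_cycles C.K hC q) hW.1 (hspec W hW).2
        (hreg ⟨W, hW.1⟩ _ (hspec W hW).1 (hspec W hW).2) _).2 ⟨_, rfl, homologyπ_toCycles C.K q y⟩
  have hexact : (ShortComplex.mk (C'.K.toCycles (q + 1) q) χ w).Exact :=
    BasisHom.exact_of_basis hB _ fun W hW z' h0 => hker W hW z' h0
  haveI : Epi (ShortComplex.mk (C'.K.toCycles (q + 1) q) χ w).g := inferInstanceAs (Epi χ)
  exact ⟨(C'.K.homologyIsCokernel (q + 1) q (ChainComplex.prev ℕ q)).coconePointUniqueUpToIso hexact.gIsCokernel⟩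

end Main

end Groth.Agent.KoszTw16
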