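import Groth.Agent.CMInter.Basic
import Groth.Agent.CMClosed.Basic
import Groth.Agent.AvramovLib.Ps
import Groth.Agent.S16235
import Groth.Agent.GrpSchLib.SmoothRegular
import Groth.Agent.QCoh.Stalk
import Groth.Prelude.Def_BlowUp2

/-!
Elements avoiding the minimal primes of a regular ideal of a regular scheme are regular modulo it.
-/

set_option autoImplicit false
set_option linter.style.haveILetI false

universe u

open AlgebraicGeometry CategoryTheory RingTheory.Sequence

namespace Groth.Agent.KoszTw16

/-- In a ring with Cohen–Macaulay localisations, avoiding the minimal primes of a regular ideal suffices. -/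
theorem mem_of_mul_mem_of_regular {R : Type u} [CommRing R] [IsNoetherianRing R]
    (hCM : ∀ (Q : Ideal R) [Q.IsPrime], LocCoh.IsCohenMacaulayLocalRing (Localization.AtPrime Q))
    {c : ℕ} (g : Fin c → R) (hg : IsWeaklyRegular R (List.ofFn g)) {x : R}
    (hx : ∀ P ∈ (Ideal.span (Set.range g)).minimalPrimes, x ∉ P) {r : R}
    (hr : x * r ∈ Ideal.span (Set.range g)) : r ∈ Ideal.span (Set.range g) := by
  set I := Ideal.span (Set.range g) with hI
  refine Ideal.mem_of_localization_maximal fun Q hQ => ?_
  let A := Localization.AtPrime Q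
  let φ := algebraMap R A
  have hxr : φ x * φ r ∈ I.map φ := by rw [← map_mul]; exact Ideal.mem_map_of_mem _ hr
  by_cases hIQ : I ≤ Q
  · by_cases hxQ : x ∈ Q
    · haveI := hCM Q
      let l : List A := List.ofFn fun j => φ (g j)
      have hlI : Ideal.ofList l = I.map φ := by
        rw [hI, Ideal.map_span, ← Set.range_comp, Ideal.ofList]
        exact congrArg Ideal.span (Set.ext fun v => List.mem_ofFn)
      have hmax : ∀ v ∈ Q, φ v ∈ IsLocalRing.maximalIdeal A := fun v hv =>
        (IsLocalization.AtPrime.to_map_mem_maximal_iff A Q v).2 hv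
      have hw : IsWeaklyRegular A (l ++ [φ x]) := by
        refine CMInter.isWeaklyRegular_of_le_height _ (fun v hv => ?_) fun q hq hle => ?_
        · rcases List.mem_append.1 hv with h | h
          · obtain ⟨j, rfl⟩ := List.mem_ofFn.1 h
            exact hmax _ (hIQ (Ideal.subset_span ⟨j, rfl⟩))
          · rw [List.mem_singleton.1 h]; exact hmax x hxQ
        · rw [Ideal.ofList_append, Ideal.ofList_singleton, sup_le_iff] at hle
          rw [← IsLocalization.height_under Q.primeCompl q]
          let Q' := q.comap φ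
          have hIQ' : I ≤ Q' := Ideal.map_le_iff_le_comap.1 (hlI ▸ hle.1)
          obtain ⟨P, hP, hPQ⟩ := Ideal.exists_minimalPrimes_le hIQ'
          haveI := hP.isPrime
          have hPlt : P < Q' := lt_of_le_of_ne hPQ fun e =>
            hx P hP (e ▸ (Ideal.mem_comap.2 ((Ideal.span_singleton_le_iff_mem q).1 hle.2) : x ∈ Q'))
          have h1 : (c : ℕ∞) ≤ P.height := S16235.length_le_height g hg c le_rfl P inferInstance (by
            rw [List.take_of_length_le (by simp)]
            refine le_trans ?_ hP.le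
            exact Ideal.span_le.2 fun v hv => Ideal.subset_span (List.mem_ofFn.1 hv))
          have h2 := Ideal.height_add_one_le_of_lt_of_isPrime hPlt
          rw [List.length_append, List.length_ofFn, List.length_singleton, Nat.cast_add, Nat.cast_one]
          exact (add_le_add h1 le_rfl).trans h2
      have h3 := (isWeaklyRegular_singleton_iff _ _).1 ((isWeaklyRegular_append_iff A l [φ x]).1 hw).2
      have h4 : Submodule.Quotient.mk (p := Ideal.ofList l • (⊤ : Submodule A A)) (φ r) = 0 := by
        refine h3.right_eq_zero_of_smul ?_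
        rw [← Submodule.Quotient.mk_smul, Submodule.Quotient.mk_eq_zero, smul_eq_mul, smul_eq_mul, Ideal.mul_top, hlI]
        exact hxr
      rw [Submodule.Quotient.mk_eq_zero, smul_eq_mul, Ideal.mul_top, hlI] at h4
      exact h4
    · exact (Ideal.unit_mul_mem_iff_mem _ (IsLocalization.map_units A (⟨x, hxQ⟩ : Q.primeCompl))).1 hxr
  · obtain ⟨v, hv, hvQ⟩ := SetLike.not_le_iff_exists.1 hIQ
    rw [Ideal.eq_top_of_isUnit_mem _ (Ideal.mem_map_of_mem _ hv)
      (IsLocalization.map_units A (⟨v, hvQ⟩ : Q.primeCompl))]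
    trivial

variable {X : Scheme.{u}}

theorem isCM_localization_sections {k : Type u} [Field k] (f : X ⟶ Spec (CommRingCat.of k)) [Smooth f]
    {W : X.Opens} (hW : IsAffineOpen W) (Q : Ideal Γ(X, W)) [Q.IsPrime] :
    LocCoh.IsCohenMacaulayLocalRing (Localization.AtPrime Q) := by
  let P : PrimeSpectrum Γ(X, W) := ⟨Q, inferInstance⟩
  have hmem : hW.fromSpec P ∈ W := hW.range_fromSpec.le ⟨P, rfl⟩
  let _ := TopCat.Presheaf.algebra_section_stalk X.presheaf (⟨hW.fromSpec P, hmem⟩ : W)
  haveI : IsLocalization.AtPrime (X.presheaf.stalk (hW.fromSpec P)) P.asIdeal := hW.isLocalization_stalk' P hmem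
  haveI := GrpSchLib.isRegularLocalRing_stalk_of_smooth f (hW.fromSpec P)
  haveI := AvramovLib.isCM_of_regular (X.presheaf.stalk (hW.fromSpec P))
  exact CMClosed.of_ringEquiv (IsLocalization.algEquiv P.asIdeal.primeCompl (X.presheaf.stalk (hW.fromSpec P))
    (Localization.AtPrime Q)).toRingEquiv

/-- A minimal prime of the ideal of a closed subscheme gives a point with zero-dimensional local ring. -/
theorem exists_point_of_minimalPrime (J : X.IdealSheafData) {W : X.affineOpens} {P : Ideal Γ(X, W.1)}
    (hP : P ∈ (J.ideal W).minimalPrimes) :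
    ∃ z : J.subscheme, ∃ hz : J.subschemeι.base z ∈ W.1,
      (W.2.primeIdealOf ⟨J.subschemeι.base z, hz⟩).asIdeal = P ∧
        ringKrullDim (J.subscheme.presheaf.stalk z) = 0 := by
  haveI := hP.isPrime
  obtain ⟨p, hp, hpP⟩ := QCoh.exists_point W.2 ⟨P, inferInstance⟩
  have hps : p ∈ J.support := by
    rw [Scheme.IdealSheafData.mem_support_iff_of_mem (U := W) hp, Scheme.mem_zeroLocus_iff]
    intro a ha hpa
    refine (QCoh.mem_basicOpen_iff_notMem W.2 hp a).1 hpa ?_
    rw [hpP]
    exact hP.le ha
  obtain ⟨z, rfl⟩ : p ∈ Set.range J.subschemeι.base := by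
    rw [show Set.range ⇑J.subschemeι.base = J.support from J.range_subschemeι]
    exact hps
  have hq : (W.2.primeIdealOf ⟨J.subschemeι.base z, hp⟩).asIdeal = P := congrArg PrimeSpectrum.asIdeal hpP
  refine ⟨z, hp, hq, ?_⟩
  let A := X.presheaf.stalk (J.subschemeι.base z)
  let π := (J.subschemeι.stalkMap z).hom
  have hπ : Function.Surjective π := J.subschemeι.stalkMap_surjective z
  letI := QCoh.stalkAlg (X := X) hp
  haveI : IsLocalization.AtPrime A P := by
    subst hq
    exact QCoh.isLocalization_stalk' W.2 hp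
  have hker : (J.ideal W).map (algebraMap Γ(X, W.1) A) ≤ RingHom.ker π := by
    rw [Ideal.map_le_iff_le_comap]
    intro a ha
    rw [← J.ker_subschemeι_app] at ha
    rw [Ideal.mem_comap, RingHom.mem_ker]
    refine (Scheme.Hom.germ_stalkMap_apply J.subschemeι W.1 z hp a).trans ?_
    rw [show (J.subschemeι.app W.1) a = 0 from ha, map_zero]
  have hrad : ((J.ideal W).map (algebraMap Γ(X, W.1) A)).radical = IsLocalRing.maximalIdeal A := by
    rw [IsLocalization.AtPrime.radical_map_of_mem_minimalPrimes A P (J.ideal W) hP,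
      IsLocalization.AtPrime.map_eq_maximalIdeal P A]
  haveI : IsLocalRing (J.subscheme.presheaf.stalk z) := inferInstance
  have huniq : ∀ q : Ideal (J.subscheme.presheaf.stalk z), q.IsPrime →
      q = IsLocalRing.maximalIdeal (J.subscheme.presheaf.stalk z) := by
    intro q hq'
    refine le_antisymm (IsLocalRing.le_maximalIdeal hq'.ne_top) fun b hb => ?_
    obtain ⟨a, rfl⟩ := hπ b
    have ha : a ∈ IsLocalRing.maximalIdeal A := fun hu => hb (hu.map π)
    rw [← hrad] at ha
    obtain ⟨n, hn⟩ := ha
    refine hq'.mem_of_pow_mem n ?_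
    rw [← map_pow, RingHom.mem_ker.1 (hker hn)]
    exact q.zero_mem
  haveI : Subsingleton (PrimeSpectrum (J.subscheme.presheaf.stalk z)) :=
    ⟨fun a b => PrimeSpectrum.ext ((huniq a.asIdeal a.isPrime).trans (huniq b.asIdeal b.isPrime).symm)⟩
  exact Order.krullDim_eq_zero

end Groth.Agent.KoszTw16
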