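import Groth.Agent.KoszTw16.Homology
import Groth.Agent.KoszTw16.AlgReg
import Groth.Agent.KoszTw16.RegMod
import Groth.Prelude.Def_RegImm

/-!
A divisor meeting a complete intersection properly is regular on the Koszul homology.
-/

set_option autoImplicit false
set_option linter.style.haveILetI false
set_option backward.isDefEq.respectTransparency false
set_option backward.isDefEq.respectTransparency.types false
set_option maxHeartbeats 400000

universe u

open CategoryTheory CategoryTheory.Limits AlgebraicGeometry TopologicalSpace Opposite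
open Groth.Agent.AModX

noncomputable section

namespace Groth.Agent.KoszTw16

variable {X : Scheme.{u}} {n : ℕ} {IY : Fin n → X.IdealSheafData} {ID : X.IdealSheafData}

theorem good'_res {W W' : X.Opens} (hW : W ∈ Good' IY ID) (hW' : IsAffineOpen W') (i : W' ≤ W) :
    W' ∈ Good' IY ID :=
  ⟨hW', fun k => let ⟨_, ha⟩ := hW.2.1 k; ⟨_, ha.res i⟩, let ⟨_, hj⟩ := hW.2.2; ⟨_, hj.res i⟩⟩

/-- Around every point the sum of the ideals is generated by a weakly regular sequence. -/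
theorem exists_regular_nhd (hY : ∀ i, BlowUp.IsEffCartierIdeal (IY i)) (hD : BlowUp.IsEffCartierIdeal ID)
    (hZ : RegImm.IsRegularImmersion RegImm.Kind.regular (⨆ i, IY i).subschemeι) {U : X.Opens} {p : X} (hp : p ∈ U) :
    ∃ (W : X.Opens) (hW : IsAffineOpen W), W ∈ Good' IY ID ∧ p ∈ W ∧ W ≤ U ∧ ∃ (c : ℕ) (g : Fin c → Γ(X, W)),
      RingTheory.Sequence.IsWeaklyRegular Γ(X, W) (List.ofFn g) ∧
        (⨆ i, IY i).ideal ⟨W, hW⟩ = Ideal.span (Set.range g) := by
  set J := ⨆ i, IY i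
  have hB := isBasis_good' IY ID hY hD
  by_cases hpJ : p ∈ J.support
  · obtain ⟨z, rfl⟩ : p ∈ Set.range J.subschemeι.base := by
      rw [show Set.range ⇑J.subschemeι.base = J.support from J.range_subschemeι]
      exact hpJ
    obtain ⟨U₀, hz, -, rs, hrs, hker⟩ := hZ.2 z
    obtain ⟨W₀, hW₀, hpW₀, hW₀le⟩ := Opens.isBasis_iff_nbhd.1 hB
      (show J.subschemeι.base z ∈ U ⊓ U₀.1 from ⟨hp, hz⟩)
    obtain ⟨f, hf, hpf⟩ := U₀.2.exists_basicOpen_le (V := W₀) ⟨_, hpW₀⟩ hz
    have hW := U₀.2.basicOpen f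
    haveI := U₀.2.isLocalization_basicOpen f
    refine ⟨X.basicOpen f, hW, good'_res hW₀ hW hf, hpf, hf.trans (hW₀le.trans inf_le_left), rs.length,
      fun k => algebraMap Γ(X, U₀.1) Γ(X, X.basicOpen f) (rs.get k), ?_, ?_⟩
    · have h2 := (hrs : RingTheory.Sequence.IsRegular Γ(X, U₀.1) rs).toIsWeaklyRegular.of_isLocalization
        Γ(X, X.basicOpen f) (Submonoid.powers f)
      rw [show (List.ofFn fun k => algebraMap Γ(X, U₀.1) Γ(X, X.basicOpen f) (rs.get k)) =
        rs.map (algebraMap Γ(X, U₀.1) Γ(X, X.basicOpen f)) by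
          rw [show (fun k => algebraMap Γ(X, U₀.1) Γ(X, X.basicOpen f) (rs.get k)) =
            ⇑(algebraMap Γ(X, U₀.1) Γ(X, X.basicOpen f)) ∘ rs.get from rfl, ← List.map_ofFn, List.ofFn_get]]
      exact h2
    · rw [← J.map_ideal (U := ⟨X.basicOpen f, hW⟩) (V := U₀) (X.basicOpen_le f), ← J.ker_subschemeι_app, hker,
        Ideal.map_ofList]
      refine congrArg Ideal.span (Set.ext fun v => ?_)
      simp only [Set.mem_setOf_eq, List.mem_map, Set.mem_range]
      constructor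
      · rintro ⟨a, ha, rfl⟩
        obtain ⟨k, rfl⟩ := List.mem_iff_get.1 ha
        exact ⟨k, rfl⟩
      · rintro ⟨k, rfl⟩
        exact ⟨_, List.get_mem rs k, rfl⟩
  · obtain ⟨W, hW, hpW, hWle⟩ := Opens.isBasis_iff_nbhd.1 hB
      (show p ∈ U ⊓ J.support.compl from ⟨hp, hpJ⟩)
    have htop : J.ideal ⟨W, hW.1⟩ = ⊤ := by
      rw [← Ideal.span_eq (J.ideal ⟨W, hW.1⟩)]
      refine (IsAffineOpen.self_le_iSup_basicOpen_iff hW.1).1 fun q hq => ?_
      have hqE : q ∉ J.support := (hWle hq).2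
      rw [Scheme.IdealSheafData.mem_support_iff_of_mem (U := ⟨W, hW.1⟩) hq, Scheme.mem_zeroLocus_iff] at hqE
      push_neg at hqE
      obtain ⟨v, hv, hqv⟩ := hqE
      exact Opens.mem_iSup.2 ⟨⟨v, hv⟩, hqv⟩
    refine ⟨W, hW.1, hW, hpW, hWle.trans inf_le_left, 1, fun _ => 1, ?_, ?_⟩
    · rw [show (List.ofFn fun _ : Fin 1 => (1 : Γ(X, W))) = [1] from rfl,
        RingTheory.Sequence.isWeaklyRegular_singleton_iff]
      exact IsSMulRegular.one _
    · rw [htop]
      exact ((Ideal.eq_top_iff_one _).2 (Ideal.subset_span (Set.mem_range_self (f := fun _ : Fin 1 => (1 : Γ(X, W))) 0))).symm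

theorem range_secForm {W : X.Opens} (hW : IsAffineOpen W) :
    LinearMap.range (KoszSh.secForm (sumSec IY) W) = (⨆ i, IY i).ideal ⟨W, hW⟩ := by
  obtain ⟨e, he⟩ := exists_sum_equiv (fun i => ClSub.idealMod (IY i)) W
  rw [Scheme.IdealSheafData.ideal_iSup, iSup_apply]
  refine le_antisymm ?_ (iSup_le fun i v hv => ?_)
  · rintro _ ⟨y, rfl⟩
    obtain ⟨c, rfl⟩ := e.surjective y
    rw [he, map_sum]
    exact Submodule.sum_mem _ fun i _ => Submodule.mem_iSup_of_mem i (by
      rw [secForm_ι]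
      exact OmegaLib.idealSect_mem (IY i) ⟨W, hW⟩ (c i))
  · obtain ⟨a, ha⟩ := OmegaLib.exists_of_mem (IY i) ⟨W, hW⟩ v hv
    exact ⟨_, (secForm_ι IY W i a).trans ha⟩

theorem exists_basis_sumMod {W : X.Opens} (hW : W ∈ Good' IY ID) :
    Nonempty (Module.Basis (Fin n) Γ(X, W) Γ(sumMod IY, W)) := by
  obtain ⟨e, -⟩ := exists_sum_equiv (fun i => ClSub.idealMod (IY i)) W
  choose a ha using hW.2.1
  exact ⟨Module.Basis.ofEquivFun (e.symm.trans (LinearEquiv.piCongrRight fun i =>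
    (LinearEquiv.ofBijective (LinearMap.toSpanSingleton Γ(X, W) _ (a i)) (by
      have := ha i W le_rfl
      simp only [res_self] at this
      exact this)).symm))⟩

theorem isSMulRegular_homology {k : Type u} [Field k] (f : X ⟶ Spec (CommRingCat.of k)) [Smooth f]
    [LocallyOfFiniteType f] (hY : ∀ i, BlowUp.IsEffCartierIdeal (IY i)) (hD : BlowUp.IsEffCartierIdeal ID)
    (hZ : RegImm.IsRegularImmersion RegImm.Kind.regular (⨆ i, IY i).subschemeι)
    (hZD : ∀ z : ↥(⨆ i, IY i).subscheme, ringKrullDim ((⨆ i, IY i).subscheme.presheaf.stalk z) = 0 →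
      (⨆ i, IY i).subschemeι.base z ∉ Set.range ID.subschemeι.base)
    (C : KoszSh.Cx (sumMod IY) (sumSec IY)) (q : ℕ) (U : X.affineOpens) (x : Γ(X, U.1))
    (hxU : ID.ideal U = Ideal.span {x}) : IsSMulRegular Γ(C.K.homology q, U.1) x := by
  haveI : IsLocallyNoetherian X := LocallyOfFiniteType.isLocallyNoetherian f
  have hC : ∀ p, Coh.IsQCoh (C.K.X p) :=
    isQCoh_term C (isQCoh_sigma _ fun i => isQCoh_of_isInvertible ((S8914.result _).2 (hY i)))
  intro h₁ h₂ h12
  refine sub_eq_zero.1 (QCoh.eq_zero_of_locally U.1 (h₁ - h₂) fun p hp => ?_)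
  obtain ⟨W, hW, hWg, hpW, hWU, c, g, hg, hI⟩ := exists_regular_nhd hY hD hZ hp
  refine ⟨W, homOfLE hWU, hpW, ?_⟩
  let x' := resR hWU x
  have hx0 : x' • res (C.K.homology q) hWU (h₁ - h₂) = 0 := by
    rw [← res_smul, smul_sub, show x • h₁ = x • h₂ from h12, sub_self, map_zero]
  show res (C.K.homology q) hWU (h₁ - h₂) = 0
  have hJW : ID.ideal ⟨W, hW⟩ = Ideal.span {x'} := by
    rw [← ID.map_ideal (U := ⟨W, hW⟩) (V := U) hWU, hxU, Ideal.map_span, Set.image_singleton]
    rfl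
  haveI : IsNoetherianRing Γ(X, W) := IsLocallyNoetherian.component_noetherian ⟨W, hW⟩
  have hmod : ∀ r, x' * r ∈ Ideal.span (Set.range g) → r ∈ Ideal.span (Set.range g) := by
    intro r hr
    refine mem_of_mul_mem_of_regular (fun Q _ => isCM_localization_sections f hW Q) g hg (fun P hP hxP => ?_) hr
    rw [← hI] at hP
    obtain ⟨z, hz, hzP, hdim⟩ := exists_point_of_minimalPrime (⨆ i, IY i) (W := ⟨W, hW⟩) hP
    refine hZD z hdim ?_
    rw [show Set.range ⇑ID.subschemeι.base = ID.support from ID.range_subschemeι, SetLike.mem_coe,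
      Scheme.IdealSheafData.mem_support_iff_of_mem (U := ⟨W, hW⟩) hz, hJW, Scheme.zeroLocus_span,
      Scheme.mem_zeroLocus_iff]
    intro v hv
    rw [Set.mem_singleton_iff.1 hv, QCoh.mem_basicOpen_iff_notMem hW hz, not_not, hzP]
    exact hxP
  obtain ⟨w, hw⟩ := homologyπ_surjective C.K hC q hW (res (C.K.homology q) hWU (h₁ - h₂))
  rw [← hw] at hx0 ⊢
  rw [← Scheme.Modules.Hom.app_smul] at hx0
  obtain ⟨b, hb⟩ := homologyπ_eq_zero C.K hC q hW _ hx0
  obtain ⟨bas⟩ := exists_basis_sumMod (IY := IY) (ID := ID) hWg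
  let y := (C.K.iCycles q).app W w
  have hdy : CliffordAlgebra.contractLeft (KoszSh.secForm (sumSec IY) W)
      (C.loc q ⟨W, hW⟩ y : ExteriorAlgebra Γ(X, W) Γ(sumMod IY, W)) = 0 := by
    cases q with
    | zero =>
      have hmem : (C.loc 0 ⟨W, hW⟩ y : ExteriorAlgebra Γ(X, W) Γ(sumMod IY, W)) ∈
          LinearMap.range (ExteriorAlgebra.ι Γ(X, W) (M := Γ(sumMod IY, W))) ^ 0 := (C.loc 0 ⟨W, hW⟩ y).2
      rw [pow_zero, Submodule.mem_one] at hmem
      obtain ⟨r, hr⟩ := hmem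
      rw [← hr]
      exact CliffordAlgebra.contractLeft_algebraMap (0 : QuadraticForm Γ(X, W) Γ(sumMod IY, W)) _ r
    | succ p =>
      refine (KoszSh16.contract_d C p ⟨W, hW⟩ y).symm.trans ?_
      rw [show (C.K.d (p + 1) p).app W y = 0 from (congr(($(C.K.iCycles_d (p + 1) p)).app W w) : _), map_zero]
      rfl
  have hdb : (C.K.d (q + 1) q).app W b = x' • y := by
    rw [← iCycles_toCycles C.K q b, hb, Scheme.Modules.Hom.app_smul]
  obtain ⟨w', hw'⟩ := exists_boundary_of_smul (KoszSh.secForm (sumSec IY) W) bas g hg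
    ((range_secForm hW).trans hI) hmod q (C.loc q ⟨W, hW⟩ y) hdy (C.loc (q + 1) ⟨W, hW⟩ b) (by
      refine (KoszSh16.contract_d C q ⟨W, hW⟩ b).symm.trans ?_
      rw [show (C.K.d (q + 1) q).app (⟨W, hW⟩ : X.affineOpens).1 b = x' • y from hdb, map_smul]
      rfl)
  have hwb : w = (C.K.toCycles (q + 1) q).app W ((C.loc (q + 1) ⟨W, hW⟩).symm w') := by
    refine iCycles_injective C.K q ?_
    rw [iCycles_toCycles]
    refine (C.loc q ⟨W, hW⟩).injective (Subtype.ext ?_)
    rw [KoszSh16.contract_d C q ⟨W, hW⟩, LinearEquiv.apply_symm_apply]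
    exact hw'.symm
  rw [hwb]
  exact homologyπ_toCycles C.K q _

end Groth.Agent.KoszTw16
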